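import Cfsg.Agent.H636.LIN.Signed

/-!
# The alternating sum over the types of flags (helper636, for S4791 / S4927)
-/

set_option autoImplicit false
set_option linter.unusedSectionVars false

namespace Cfsg.Agent.H636.LIN

open Finset

section general

variable {α : Type*} [Fintype α] [DecidableEq α] [PartialOrder α] [DecidableLE α] [DecidableLT α] {m : ℕ}

/-- the number of chains with dimensions `k + 1`, `k ∈ U` -/
def nch (D : α → ℕ) (U : Finset (Fin m)) : ℤ :=
  (((chs (univ : Finset α)).filter fun c => c.image D = U.image fun k : Fin m => (k : ℕ) + 1).card : ℤ)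

/-- the nodes of the dimensions of a chain -/
def typ (m : ℕ) (D : α → ℕ) (c : Finset α) : Finset (Fin m) := univ.filter fun k => (k : ℕ) + 1 ∈ c.image D

theorem injOn_dim {D : α → ℕ} (hD : ∀ x y, x < y → D x < D y) {c : Finset α} (hc : ∀ x ∈ c, ∀ y ∈ c, x ≤ y ∨ y ≤ x) :
    Set.InjOn D (c : Set α) := by
  intro x hx y hy e
  rcases hc x hx y hy with h | h
  · rcases h.eq_or_lt with h | h
    · exact h
    · exact absurd e (hD x y h).ne
  · rcases h.eq_or_lt with h | h
    · exact h.symm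
    · exact absurd e (hD y x h).ne'

theorem image_typ {D : α → ℕ} {c : Finset α} (h1 : ∀ x ∈ c, 1 ≤ D x) (h2 : ∀ x ∈ c, D x ≤ m) :
    (typ m D c).image (fun k : Fin m => (k : ℕ) + 1) = c.image D := by
  ext n
  rw [mem_image, mem_image]
  constructor
  · rintro ⟨k, hk, rfl⟩
    obtain ⟨x, hx, e⟩ := mem_image.1 (mem_filter.1 hk).2
    exact ⟨x, hx, e⟩
  · rintro ⟨x, hx, rfl⟩
    have h3 := h1 x hx
    have h4 := h2 x hx
    refine ⟨⟨D x - 1, by omega⟩, ?_, ?_⟩
    · refine mem_filter.2 ⟨mem_univ _, ?_⟩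
      have e : D x - 1 + 1 = D x := by omega
      change D x - 1 + 1 ∈ c.image D
      rw [e]
      exact mem_image_of_mem D hx
    · change D x - 1 + 1 = D x
      omega

theorem inj_succ : Function.Injective (fun k : Fin m => (k : ℕ) + 1) := fun _ _ e => Fin.ext (Nat.succ_injective e)

theorem typ_of_image {D : α → ℕ} {c : Finset α} {U : Finset (Fin m)} (h : c.image D = U.image fun k : Fin m => (k : ℕ) + 1) :
    typ m D c = U := by
  ext k
  unfold typ
  rw [mem_filter, h]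
  constructor
  · rintro ⟨-, hk⟩
    obtain ⟨l, hl, e⟩ := mem_image.1 hk
    rwa [← inj_succ e]
  · exact fun hk => ⟨mem_univ _, mem_image_of_mem _ hk⟩

theorem card_typ {D : α → ℕ} (hD : ∀ x y, x < y → D x < D y) {c : Finset α} (hc : ∀ x ∈ c, ∀ y ∈ c, x ≤ y ∨ y ≤ x)
    (h1 : ∀ x ∈ c, 1 ≤ D x) (h2 : ∀ x ∈ c, D x ≤ m) : (typ m D c).card = c.card := by
  rw [← card_image_of_injective _ (inj_succ (m := m)), image_typ h1 h2, card_image_of_injOn (injOn_dim hD hc)]

/-- the sum over the types is the alternating number of chains -/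
theorem sum_types {D : α → ℕ} (hD : ∀ x y, x < y → D x < D y) (hm : ∀ x, D x ≤ m) {a : ℕ} (S : Finset (Fin m))
    (hS : ∀ k, k ∈ S ↔ a ≤ (k : ℕ)) :
    ∑ U ∈ S.powerset, (-1) ^ U.card * nch D U = Ech (univ.filter fun x : α => a + 1 ≤ D x) := by
  have hmem : ∀ c ∈ chs (univ.filter fun x : α => a + 1 ≤ D x), ∀ x ∈ c, a + 1 ≤ D x :=
    fun c hc x hx => (mem_filter.1 ((mem_chs.1 hc).1 hx)).2
  have h1 : ∀ c ∈ chs (univ.filter fun x : α => a + 1 ≤ D x), typ m D c ∈ S.powerset := by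
    intro c hc
    rw [mem_powerset]
    intro k hk
    rw [hS]
    obtain ⟨x, hx, e⟩ := mem_image.1 (mem_filter.1 hk).2
    have := hmem c hc x hx
    omega
  unfold Ech
  rw [← sum_fiberwise_of_maps_to h1]
  refine sum_congr rfl fun U hU => ?_
  unfold nch
  have h2 : (chs (univ : Finset α)).filter (fun c => c.image D = U.image fun k : Fin m => (k : ℕ) + 1) =
      (chs (univ.filter fun x : α => a + 1 ≤ D x)).filter fun c => typ m D c = U := by
    ext c
    rw [mem_filter, mem_filter, mem_chs, mem_chs]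
    constructor
    · rintro ⟨⟨-, hc⟩, e⟩
      refine ⟨⟨fun x hx => ?_, hc⟩, typ_of_image e⟩
      rw [mem_filter]
      refine ⟨mem_univ _, ?_⟩
      have h3 : D x ∈ U.image fun k : Fin m => (k : ℕ) + 1 := by
        rw [← e]
        exact mem_image_of_mem D hx
      obtain ⟨k, hk, e2⟩ := mem_image.1 h3
      have h4 := (hS k).1 (mem_powerset.1 hU hk)
      omega
    · rintro ⟨⟨h3, hc⟩, e⟩
      refine ⟨⟨subset_univ _, hc⟩, ?_⟩
      have h4 : ∀ x ∈ c, a + 1 ≤ D x := fun x hx => (mem_filter.1 (h3 hx)).2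
      rw [← e, image_typ (fun x hx => by have := h4 x hx; omega) fun x _ => hm x]
  rw [h2]
  have h3 : ∀ c ∈ (chs (univ.filter fun x : α => a + 1 ≤ D x)).filter (fun c => typ m D c = U), (-1 : ℤ) ^ c.card = (-1) ^ U.card := by
    intro c hc
    have hc1 := (mem_filter.1 hc).1
    rw [← (mem_filter.1 hc).2, card_typ hD (mem_chs.1 hc1).2 (fun x hx => by have := hmem c hc1 x hx; omega) fun x _ => hm x]
  rw [sum_congr rfl h3, sum_const, nsmul_eq_mul, mul_comm]

theorem card_ge {a : ℕ} (_ha : a ≤ m) (S : Finset (Fin m)) (hS : ∀ k, k ∈ S ↔ a ≤ (k : ℕ)) : S.card = m - a := by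
  have h1 : S.image (fun k : Fin m => (k : ℕ)) = Finset.Ico a m := by
    ext n
    rw [mem_image, mem_Ico]
    constructor
    · rintro ⟨k, hk, rfl⟩
      exact ⟨(hS k).1 hk, k.2⟩
    · rintro ⟨h2, h3⟩
      exact ⟨⟨n, h3⟩, (hS _).2 h2, rfl⟩
  rw [← card_image_of_injective S (f := fun k : Fin m => (k : ℕ)) Fin.val_injective, h1, Nat.card_Ico]

/-- the form of `FV_beta` -/
theorem alt_sum_gen {D : α → ℕ} (hD : ∀ x y, x < y → D x < D y) (hm : ∀ x, D x ≤ m) {a : ℕ} (ha : a ≤ m) (S : Finset (Fin m))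
    (hS : ∀ k, k ∈ S ↔ a ≤ (k : ℕ)) (N : Finset (Fin m) → ℤ) (hN : ∀ U ⊆ S, N U = nch D U) :
    ∑ L ∈ S.powerset, (-1) ^ L.card * N (S \ L) = (-1) ^ (m - a) * Ech (univ.filter fun x : α => a + 1 ≤ D x) := by
  rw [← sum_types hD hm S hS, mul_sum]
  refine sum_bij' (fun L _ => S \ L) (fun U _ => S \ U) ?_ ?_ ?_ ?_ ?_
  · exact fun L _ => mem_powerset.2 sdiff_subset
  · exact fun L _ => mem_powerset.2 sdiff_subset
  · intro L hL
    exact Finset.sdiff_sdiff_eq_self (mem_powerset.1 hL)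
  · intro L hL
    exact Finset.sdiff_sdiff_eq_self (mem_powerset.1 hL)
  · intro L hL
    have hL' := mem_powerset.1 hL
    rw [hN _ sdiff_subset, ← mul_assoc]
    congr 1
    have h1 := card_sdiff_add_card_eq_card hL'
    rw [card_ge ha S hS] at h1
    rw [← h1, pow_add, mul_assoc, mul_comm ((-1 : ℤ) ^ (S \ L).card), mul_assoc, ← mul_pow]
    simp

end general

section signed

variable {ι : Type*} [Fintype ι] [DecidableEq ι] {m v : ℕ}

theorem dm_le (d : ι → ℕ) (hm : v + ∑ i, d i = m) (x : Q v ι) : dm d x ≤ m := by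
  unfold dm wt
  have h1 : ∑ i, (if x.2 i = none then 0 else d i) ≤ ∑ i, d i := sum_le_sum fun i _ => by split_ifs <;> omega
  have h2 := x.1.2
  omega

/-- **(L-c)** -/
theorem alt_sum (d : ι → ℕ) (hd : ∀ i, 0 < d i) (hm : v + ∑ i, d i = m) {a : ℕ} (ha : a ≤ m) (S : Finset (Fin m))
    (hS : ∀ k, k ∈ S ↔ a ≤ (k : ℕ)) (N : Finset (Fin m) → ℤ) (hN : ∀ U ⊆ S, N U = nch (dm (v := v) d) U) :
    ∑ L ∈ S.powerset, (-1) ^ L.card * N (S \ L) =
      (-1) ^ (m - a) * ∑ σ ∈ univ.filter (fun σ : Sg ι => v + wt d σ < a + 1), sgn σ := by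
  rw [alt_sum_gen (fun x y h => dm_strictMono hd h) (dm_le d hm) ha S hS N hN, Ech_ge]

end signed

end Cfsg.Agent.H636.LIN
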