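import Cfsg.Agent.H636.LIN.Alt

/-!
# Type `D` : the alternating sum over the types of flags (helper636, for S4791 / S4927)
-/

set_option autoImplicit false
set_option linter.unusedSectionVars false

namespace Cfsg.Agent.H636.LIN

open Finset

section general

variable {α : Type*} [Fintype α] [DecidableEq α] [PartialOrder α] [DecidableLE α] [DecidableLT α] {m : ℕ}

/-- chains with an element of dimension `m - 1` and one of dimension `m` -/
theorem nch_two {D : α → ℕ} (hD : ∀ x y, x < y → D x < D y) (i j : Fin m) (hij : (j : ℕ) = i + 1) (hj : (j : ℕ) + 1 = m)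
    (h2 : ∀ x, D x = (i : ℕ) + 1 → (univ.filter fun y => x < y ∧ D y = (j : ℕ) + 1).card = 2) {U : Finset (Fin m)}
    (hU : ∀ k ∈ U, (k : ℕ) < i) : nch D (insert j (insert i U)) = 2 * nch D (insert i U) := by
  have hiU : i ∉ U := fun h => lt_irrefl _ (hU i h)
  have hjU : j ∉ insert i U := by
    intro h
    rcases mem_insert.1 h with h | h
    · rw [h] at hij; omega
    · have := hU j h; omega
  unfold nch
  set S2 := (chs (univ : Finset α)).filter fun c => c.image D = (insert j (insert i U)).image fun k : Fin m => (k : ℕ) + 1 with hS2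
  set S1 := (chs (univ : Finset α)).filter fun c => c.image D = (insert i U).image fun k : Fin m => (k : ℕ) + 1 with hS1
  -- the map: remove the element of dimension `j + 1`
  have hmaps : ∀ c ∈ S2, c.filter (fun x => D x ≠ (j : ℕ) + 1) ∈ S1 := by
    intro c hc
    rw [hS2, mem_filter, mem_chs] at hc
    rw [hS1, mem_filter, mem_chs]
    refine ⟨⟨subset_univ _, fun x hx y hy => hc.1.2 x (mem_filter.1 hx).1 y (mem_filter.1 hy).1⟩, ?_⟩
    ext n
    rw [mem_image, mem_image]
    constructor
    · rintro ⟨x, hx, rfl⟩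
      rw [mem_filter] at hx
      have h3 : D x ∈ (insert j (insert i U)).image fun k : Fin m => (k : ℕ) + 1 := by
        rw [← hc.2]
        exact mem_image_of_mem D hx.1
      obtain ⟨k, hk, e⟩ := mem_image.1 h3
      rcases mem_insert.1 hk with rfl | hk
      · exact absurd e.symm hx.2
      · exact ⟨k, hk, e⟩
    · rintro ⟨k, hk, rfl⟩
      have h3 : (k : ℕ) + 1 ∈ c.image D := by
        rw [hc.2]
        exact mem_image_of_mem (fun k : Fin m => (k : ℕ) + 1) (mem_insert_of_mem hk)
      obtain ⟨x, hx, e⟩ := mem_image.1 h3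
      refine ⟨x, mem_filter.2 ⟨hx, fun e2 => ?_⟩, e⟩
      have h4 : (k : ℕ) = j := by omega
      exact hjU (by rwa [← Fin.ext h4])
  have key : S2.card = ∑ c ∈ S1, (S2.filter fun d => d.filter (fun x => D x ≠ (j : ℕ) + 1) = c).card :=
    card_eq_sum_card_fiberwise hmaps
  have hfib : ∀ c ∈ S1, (S2.filter fun d => d.filter (fun x => D x ≠ (j : ℕ) + 1) = c).card = 2 := by
    intro c hc
    have hc' := hc
    rw [hS1, mem_filter, mem_chs] at hc
    -- the top element
    have h3 : (i : ℕ) + 1 ∈ c.image D := by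
      rw [hc.2]
      exact mem_image_of_mem (fun k : Fin m => (k : ℕ) + 1) (mem_insert_self _ _)
    obtain ⟨x, hx, e⟩ := mem_image.1 h3
    have hle : ∀ y ∈ c, D y ≤ (i : ℕ) + 1 := by
      intro y hy
      have h4 : D y ∈ (insert i U).image fun k : Fin m => (k : ℕ) + 1 := by
        rw [← hc.2]
        exact mem_image_of_mem D hy
      obtain ⟨k, hk, e⟩ := mem_image.1 h4
      rcases mem_insert.1 hk with rfl | hk
      · omega
      · have := hU k hk; omega
    have htop : ∀ y ∈ c, y ≤ x := by
      intro y hy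
      rcases hc.1.2 y hy x hx with h5 | h5
      · exact h5
      · rcases h5.eq_or_lt with h6 | h6
        · exact h6.symm.le
        · have := hD x y h6
          have := hle y hy
          omega
    rw [← h2 x e]
    symm
    refine card_bij (fun y _ => insert y c) ?_ ?_ ?_
    · intro y hy
      rw [mem_filter] at hy
      have hyc : y ∉ c := fun h => by have := hle y h; omega
      rw [mem_filter, hS2, mem_filter, mem_chs]
      refine ⟨⟨⟨subset_univ _, ?_⟩, ?_⟩, ?_⟩
      · intro a ha b hb
        rcases mem_insert.1 ha with h5 | h5 <;> rcases mem_insert.1 hb with h6 | h6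
        · exact Or.inl (h5.trans h6.symm).le
        · rw [h5]
          exact Or.inr ((htop b h6).trans hy.2.1.le)
        · rw [h6]
          exact Or.inl ((htop a h5).trans hy.2.1.le)
        · exact hc.1.2 a h5 b h6
      · rw [image_insert, hc.2, image_insert (a := j), hy.2.2]
      · rw [filter_insert, if_neg (fun h => h hy.2.2)]
        exact filter_true_of_mem fun a ha h => by have := hle a ha; omega
    · intro y hy y' hy' e1
      rw [mem_filter] at hy hy'
      have h5 : y ∈ insert y' c := by rw [← e1]; exact mem_insert_self _ _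
      rcases mem_insert.1 h5 with h6 | h6
      · exact h6
      · have := hle y h6
        omega
    · intro d hd
      rw [mem_filter, hS2, mem_filter, mem_chs] at hd
      obtain ⟨⟨⟨-, hd1⟩, hd2⟩, hd3⟩ := hd
      have h5 : (j : ℕ) + 1 ∈ d.image D := by
        rw [hd2]
        exact mem_image_of_mem (fun k : Fin m => (k : ℕ) + 1) (mem_insert_self _ _)
      obtain ⟨y, hy, e1⟩ := mem_image.1 h5
      have hxd : x ∈ d := by
        rw [← hd3] at hx
        exact (mem_filter.1 hx).1
      refine ⟨y, ?_, ?_⟩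
      · rw [mem_filter]
        refine ⟨mem_univ _, ?_, e1⟩
        rcases hd1 x hxd y hy with h6 | h6
        · exact lt_of_le_of_ne h6 fun h7 => by rw [h7] at e; omega
        · rcases h6.eq_or_lt with h7 | h7
          · rw [h7] at e1; omega
          · have := hD y x h7; omega
      · rw [← hd3]
        ext a
        rw [mem_insert, mem_filter]
        constructor
        · rintro (rfl | h6)
          · exact hy
          · exact h6.1
        · intro h6
          by_cases h7 : D a = (j : ℕ) + 1
          · left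
            exact injOn_dim hD hd1 h6 hy (h7.trans e1.symm)
          · exact Or.inr ⟨h6, h7⟩
  rw [sum_congr rfl hfib, sum_const, smul_eq_mul] at key
  rw [key]
  push_cast
  ring

theorem sum_powerset_two {S : Finset (Fin m)} {i j : Fin m} (hij : i ≠ j) (hi : i ∉ S) (hj : j ∉ S) (f : Finset (Fin m) → ℤ) :
    ∑ U ∈ (insert j (insert i S)).powerset, (-1) ^ U.card * f U =
      ∑ U ∈ S.powerset, (-1) ^ U.card * (f U - f (insert i U) - f (insert j U) + f (insert j (insert i U))) := by
  have hji : j ∉ insert i S := by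
    intro h
    rcases mem_insert.1 h with h | h
    · exact hij h.symm
    · exact hj h
  rw [sum_powerset_insert hji, sum_powerset_insert hi, sum_powerset_insert hi, ← sum_add_distrib, ← sum_add_distrib,
    ← sum_add_distrib]
  refine sum_congr rfl fun U hU => ?_
  have hU' := mem_powerset.1 hU
  have h1 : i ∉ U := fun h => hi (hU' h)
  have h2 : j ∉ U := fun h => hj (hU' h)
  have h3 : j ∉ insert i U := by
    intro h
    rcases mem_insert.1 h with h | h
    · exact hij h.symm
    · exact h2 h
  rw [card_insert_of_notMem h3, card_insert_of_notMem h1, card_insert_of_notMem h2]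
  ring

/-- the alternating sum, type `D` -/
theorem alt_sum_D {D : α → ℕ} (hD : ∀ x y, x < y → D x < D y) (hm : ∀ x, D x ≤ m) {a : ℕ} (i j : Fin m)
    (hij : (j : ℕ) = i + 1) (hj : (j : ℕ) + 1 = m) (ha : a ≤ i)
    (h2 : ∀ x, D x = (i : ℕ) + 1 → (univ.filter fun y => x < y ∧ D y = (j : ℕ) + 1).card = 2)
    (S : Finset (Fin m)) (hS : ∀ k, k ∈ S ↔ a ≤ (k : ℕ)) (N : Finset (Fin m) → ℤ)
    (h0 : ∀ U : Finset (Fin m), (∀ k ∈ U, a ≤ (k : ℕ) ∧ (k : ℕ) < i) → N U = nch D U)
    (h1 : ∀ U : Finset (Fin m), (∀ k ∈ U, a ≤ (k : ℕ) ∧ (k : ℕ) < i) → N (insert i U) + N (insert j U) = nch D (insert j U))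
    (h11 : ∀ U : Finset (Fin m), (∀ k ∈ U, a ≤ (k : ℕ) ∧ (k : ℕ) < i) → N (insert j (insert i U)) = nch D (insert i U)) :
    ∑ L ∈ S.powerset, (-1) ^ L.card * N (S \ L) = (-1) ^ (m - a) * Ech (univ.filter fun x : α => a + 1 ≤ D x) := by
  have hjm := j.2
  rw [← sum_types hD hm S hS]
  let S' : Finset (Fin m) := univ.filter fun k => a ≤ (k : ℕ) ∧ (k : ℕ) < i
  have hne : i ≠ j := fun e => by rw [e] at hij; omega
  have hi' : i ∉ S' := fun h => lt_irrefl _ (mem_filter.1 h).2.2
  have hj' : j ∉ S' := fun h => by have := (mem_filter.1 h).2.2; omega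
  have hSS : S = insert j (insert i S') := by
    ext k
    rw [hS, mem_insert, mem_insert, mem_filter]
    constructor
    · intro hk
      have hk2 := k.2
      by_cases h3 : (k : ℕ) = j
      · exact Or.inl (Fin.ext h3)
      · by_cases h4 : (k : ℕ) = i
        · exact Or.inr (Or.inl (Fin.ext h4))
        · exact Or.inr (Or.inr ⟨mem_univ _, hk, by omega⟩)
    · rintro (rfl | rfl | h)
      · omega
      · exact ha
      · exact h.2.1
  have e1 : ∑ U ∈ S.powerset, (-1) ^ U.card * N U = ∑ U ∈ S.powerset, (-1) ^ U.card * nch D U := by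
    rw [hSS, sum_powerset_two hne hi' hj', sum_powerset_two hne hi' hj']
    refine sum_congr rfl fun U hU => ?_
    have hU' : ∀ k ∈ U, a ≤ (k : ℕ) ∧ (k : ℕ) < i := fun k hk => (mem_filter.1 (mem_powerset.1 hU hk)).2
    have h3 := h1 U hU'
    rw [h0 U hU', h11 U hU', nch_two hD i j hij hj h2 fun k hk => (hU' k hk).2]
    congr 1
    linarith
  rw [← e1, mul_sum]
  refine sum_bij' (fun L _ => S \ L) (fun U _ => S \ U) ?_ ?_ ?_ ?_ ?_
  · exact fun L _ => mem_powerset.2 sdiff_subset
  · exact fun L _ => mem_powerset.2 sdiff_subset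
  · intro L hL
    exact Finset.sdiff_sdiff_eq_self (mem_powerset.1 hL)
  · intro L hL
    exact Finset.sdiff_sdiff_eq_self (mem_powerset.1 hL)
  · intro L hL
    have hL' := mem_powerset.1 hL
    rw [← mul_assoc]
    congr 1
    have h3 := card_sdiff_add_card_eq_card hL'
    have h4 : a ≤ m := by omega
    rw [card_ge h4 S hS] at h3
    rw [← h3, pow_add, mul_comm ((-1 : ℤ) ^ (S \ L).card) ((-1) ^ L.card), mul_assoc, ← mul_pow]
    simp

end general

/-! ### the posets -/

section tops

/-- the orbits on the totally singular subspaces of a space of `+` type of dimension `2 v`: the dimensions `0, …, v - 1` and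
the two classes of maximal subspaces -/
def Tp (v : ℕ) : Type := Fin v ⊕ Bool

instance (v : ℕ) : Fintype (Tp v) := inferInstanceAs (Fintype (Fin v ⊕ Bool))

instance (v : ℕ) : DecidableEq (Tp v) := inferInstanceAs (DecidableEq (Fin v ⊕ Bool))

/-- the dimensions -/
def tdim {v : ℕ} (x : Tp v) : ℕ := Sum.elim (fun i : Fin v => (i : ℕ)) (fun _ : Bool => v) x

/-- the maximal subspaces -/
def top {v : ℕ} (b : Bool) : Tp v := Sum.inr b

/-- the subspaces which are not maximal -/
def low {v : ℕ} (i : Fin v) : Tp v := Sum.inl i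

theorem tdim_top {v : ℕ} (b : Bool) : tdim (top b : Tp v) = v := rfl

theorem tdim_low {v : ℕ} (i : Fin v) : tdim (low i : Tp v) = i := rfl

theorem tp_cases {v : ℕ} (x : Tp v) : (∃ i, x = low i) ∨ ∃ b, x = top b := by
  rcases x with i | b
  · exact Or.inl ⟨i, rfl⟩
  · exact Or.inr ⟨b, rfl⟩

theorem low_ne_top {v : ℕ} (i : Fin v) (b : Bool) : (low i : Tp v) ≠ top b := Sum.inl_ne_inr

theorem low_inj {v : ℕ} {i j : Fin v} (h : (low i : Tp v) = low j) : i = j := Sum.inl_injective h

theorem top_inj {v : ℕ} {b b' : Bool} (h : (top b : Tp v) = top b') : b = b' := Sum.inr_injective h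

theorem tdim_le {v : ℕ} (x : Tp v) : tdim x ≤ v := by
  rcases tp_cases x with ⟨i, rfl⟩ | ⟨b, rfl⟩
  · exact i.2.le
  · exact le_rfl

instance (v : ℕ) : PartialOrder (Tp v) where
  le x y := x = y ∨ tdim x < tdim y
  le_refl x := Or.inl rfl
  le_trans x y z h1 h2 := by
    rcases h1 with rfl | h1
    · exact h2
    · rcases h2 with rfl | h2
      · exact Or.inr h1
      · exact Or.inr (h1.trans h2)
  le_antisymm x y h1 h2 := by
    rcases h1 with h1 | h1
    · exact h1
    · rcases h2 with h2 | h2
      · exact h2.symm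
      · omega

theorem tp_le {v : ℕ} {x y : Tp v} : x ≤ y ↔ x = y ∨ tdim x < tdim y := Iff.rfl

noncomputable instance (v : ℕ) : DecidableLE (Tp v) := fun _ _ => Classical.dec _

noncomputable instance (v : ℕ) : DecidableLT (Tp v) := fun _ _ => Classical.dec _

theorem sum_tp {v : ℕ} (f : Tp v → ℤ) : ∑ x, f x = ∑ i : Fin v, f (low i) + (f (top true) + f (top false)) := by
  have h1 := Fintype.sum_sum_type (α₁ := Fin v) (α₂ := Bool) (fun x => f x)
  rw [Fintype.sum_bool] at h1
  exact h1

/-- the weights -/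
def cc {v : ℕ} (x : Tp v) : ℤ := Sum.elim (fun i : Fin v => if (i : ℕ) + 1 = v then -1 else 0) (fun _ : Bool => 1) x

theorem cc_low {v : ℕ} (i : Fin v) : cc (low i : Tp v) = if (i : ℕ) + 1 = v then -1 else 0 := rfl

theorem cc_top {v : ℕ} (b : Bool) : cc (top b : Tp v) = 1 := rfl

theorem sum_cc_ge {v : ℕ} (x : Tp v) : ∑ y ∈ univ.filter (fun y => x ≤ y), cc y = 1 := by
  rw [sum_filter, sum_tp]
  rcases tp_cases x with ⟨i, rfl⟩ | ⟨b, rfl⟩
  · have h1 : ∀ b, (low i : Tp v) ≤ top b := fun b => Or.inr i.2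
    rw [if_pos (h1 true), if_pos (h1 false), cc_top, cc_top]
    have hv : 0 < v := lt_of_le_of_lt (Nat.zero_le _) i.2
    have h2 : ∑ j : Fin v, (if (low i : Tp v) ≤ low j then cc (low j : Tp v) else 0) = -1 := by
      rw [Finset.sum_eq_single (⟨v - 1, by omega⟩ : Fin v)]
      · rw [if_pos, cc_low, if_pos]
        · exact Nat.sub_add_cancel hv
        · have := i.2
          by_cases h3 : (i : ℕ) = v - 1
          · exact Or.inl (congrArg low (Fin.ext h3))
          · refine Or.inr ?_
            rw [tdim_low, tdim_low]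
            change (i : ℕ) < v - 1
            omega
      · intro j _ hj
        have h3 : (j : ℕ) + 1 ≠ v := fun h => hj (Fin.ext (by change (j : ℕ) = v - 1; omega))
        rw [cc_low, if_neg h3]
        split_ifs <;> rfl
      · intro h3
        exact absurd (mem_univ _) h3
    rw [h2]
    norm_num
  · have h1 : ∀ i, ¬ (top b : Tp v) ≤ low i := by
      rintro i (h | h)
      · exact low_ne_top i b h.symm
      · rw [tdim_top, tdim_low] at h
        have := i.2
        omega
    rw [Finset.sum_eq_zero fun i _ => if_neg (h1 i), zero_add]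
    have h2 : ∀ b', (top b : Tp v) ≤ top b' ↔ b = b' := by
      intro b'
      constructor
      · rintro (h | h)
        · exact top_inj h
        · rw [tdim_top, tdim_top] at h
          omega
      · rintro rfl
        exact le_rfl
    simp only [h2, cc_top]
    cases b <;> simp

variable {ι : Type*} [Fintype ι] [DecidableEq ι]

/-- the poset, `V_0` of `+` type -/
abbrev QD (v : ℕ) (ι : Type*) := Tp v × Sg ι

noncomputable instance {v : ℕ} : DecidableLE (QD v ι) := fun _ _ => Classical.dec _

noncomputable instance {v : ℕ} : DecidableLT (QD v ι) := fun _ _ => Classical.dec _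

/-- the dimension -/
def ddm {v : ℕ} (d : ι → ℕ) (x : QD v ι) : ℕ := tdim x.1 + wt d x.2

theorem ddm_le {v m : ℕ} (d : ι → ℕ) (hm : v + ∑ i, d i = m) (x : QD v ι) : ddm d x ≤ m := by
  unfold ddm wt
  have h1 : ∑ i, (if x.2 i = none then 0 else d i) ≤ ∑ i, d i := sum_le_sum fun i _ => by split_ifs <;> omega
  have h2 := tdim_le x.1
  omega

theorem ddm_strictMono {v : ℕ} {d : ι → ℕ} (hd : ∀ i, 0 < d i) {x y : QD v ι} (h : x < y) : ddm d x < ddm d y := by
  unfold ddm
  have hle : x.1 = y.1 ∨ tdim x.1 < tdim y.1 := h.le.1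
  have h3 := wt_mono (d := d) h.le.2
  rcases hle with h1 | h1
  · have h2 : x.2 < y.2 := lt_of_le_of_ne h.le.2 fun e => h.ne (Prod.ext h1 e)
    have h4 := wt_strictMono hd h2
    rw [h1]
    omega
  · omega

theorem cc_rec {v : ℕ} (x : QD v ι) : ∑ y ∈ univ.filter (fun y => x ≤ y), cc y.1 * sgn y.2 = 1 := by
  have h1 : (univ.filter fun y : QD v ι => x ≤ y) =
      (univ.filter fun t : Tp v => x.1 ≤ t) ×ˢ (univ.filter fun σ : Sg ι => x.2 ≤ σ) := by
    refine Finset.ext fun y => ?_
    rw [mem_product, mem_filter, mem_filter, mem_filter]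
    exact ⟨fun h => ⟨⟨mem_univ _, h.2.1⟩, mem_univ _, h.2.2⟩, fun h => ⟨mem_univ _, h.1.2, h.2.2⟩⟩
  rw [h1, sum_product]
  exact (sum_mul_sum _ _ _ _).symm.trans (by rw [sum_cc_ge, sum_sgn_ge, mul_one])

/-- the partial sums -/
def TT (d : ι → ℕ) (v b : ℕ) : ℤ := ∑ σ ∈ univ.filter (fun σ : Sg ι => v + wt d σ < b), sgn σ

theorem sum_not {v b : ℕ} (d : ι → ℕ) : ∑ σ ∈ univ.filter (fun σ : Sg ι => b ≤ v + wt d σ), sgn σ = 1 - TT d v b := by
  have h1 := sum_sgn (ι := ι)
  rw [← sum_filter_add_sum_filter_not univ (fun σ : Sg ι => v + wt d σ < b)] at h1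
  have h2 : (univ.filter fun σ : Sg ι => ¬ v + wt d σ < b) = univ.filter fun σ : Sg ι => b ≤ v + wt d σ :=
    Finset.filter_congr fun σ _ => not_lt
  rw [h2] at h1
  unfold TT
  linarith

/-- **the alternating number of chains, `V_0 ≠ 0` of `+` type** -/
theorem Ech_geD {v : ℕ} (hv : 0 < v) (d : ι → ℕ) (b : ℕ) :
    Ech (univ.filter fun x : QD v ι => b ≤ ddm d x) = 2 * TT d v b - TT d (v - 1) b := by
  rw [Ech_upper (fun x : QD v ι => cc x.1 * sgn x.2) cc_rec]
  · have h1 : ∑ x ∈ univ.filter (fun x : QD v ι => b ≤ ddm d x), cc x.1 * sgn x.2 =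
        ∑ t : Tp v, cc t * (1 - TT d (tdim t) b) := by
      rw [sum_filter, Fintype.sum_prod_type]
      refine sum_congr rfl fun t _ => ?_
      rw [← sum_not, sum_filter, mul_sum]
      refine sum_congr rfl fun σ _ => ?_
      change (if b ≤ tdim t + wt d σ then _ else _) = _
      split_ifs
      · rfl
      · rw [mul_zero]
    rw [h1, sum_tp, cc_top, cc_top, tdim_top, tdim_top]
    have h2 : ∑ i : Fin v, cc (low i : Tp v) * (1 - TT d (tdim (low i : Tp v)) b) = -(1 - TT d (v - 1) b) := by
      rw [Finset.sum_eq_single (⟨v - 1, by omega⟩ : Fin v)]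
      · rw [cc_low, if_pos (Nat.sub_add_cancel hv), tdim_low]
        ring
      · intro j _ hj
        have h3 : (j : ℕ) + 1 ≠ v := fun h => hj (Fin.ext (by change (j : ℕ) = v - 1; omega))
        rw [cc_low, if_neg h3, zero_mul]
      · intro h3
        exact absurd (mem_univ _) h3
    rw [h2]
    ring
  · intro x hx y hxy
    rw [mem_filter] at hx ⊢
    refine ⟨mem_univ _, hx.2.trans ?_⟩
    unfold ddm
    have h1 : x.1 = y.1 ∨ tdim x.1 < tdim y.1 := hxy.le.1
    have h2 := wt_mono (d := d) hxy.le.2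
    rcases h1 with h1 | h1
    · rw [h1]; omega
    · omega

/-- **the alternating number of chains, `V_0 = 0`** -/
theorem Ech_ge0 (d : ι → ℕ) (b : ℕ) : Ech (univ.filter fun x : Sg ι => b ≤ wt d x) = TT d 0 b := by
  rw [Ech_upper sgn sum_sgn_ge]
  · have h1 := sum_not (v := 0) (b := b) d
    simp only [zero_add] at h1
    rw [h1]
    ring
  · intro x hx y hxy
    rw [mem_filter] at hx ⊢
    exact ⟨mem_univ _, hx.2.trans (wt_mono hxy.le)⟩

end tops

end Cfsg.Agent.H636.LIN
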