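import Cfsg.Agent.H636.LIN.GdC

/-!
# `GdC` from the number of chains modulo `p` (helper636, for S4791 / S4927)
-/

set_option autoImplicit false
set_option linter.unusedSectionVars false

open Cfsg

namespace Cfsg.Agent.H636.LIN

open CoxeterSystem Cfsg.Agent.ChevalleyStructure.CoxeterGeom Cfsg.Agent.Tits.Roots Cfsg.Agent.Tits.Core
  Cfsg.Agent.Nodes.Reps Cfsg.Agent.Nodes.BNOf Cfsg.Agent.Nodes.StabComb Cfsg.Agent.Nodes.Comb
  Cfsg.Agent.Nodes.Bruhat Cfsg.Agent.Nodes.OppDec Cfsg.Agent.Nodes.LeviDec Cfsg.Agent.Characters.Core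
  Cfsg.Agent.H796.BR Cfsg.Agent.H145.BR Cfsg.Agent.H967.XZ Cfsg.Agent.H603.AP Cfsg.Agent.H674.XZ

universe u

variable {m : ℕ} {W : Type*} [Group W] [Finite W] {Y : Type u} [Group Y] [Finite Y]
  {cs : CoxeterSystem (CoxeterMatrix.B m) W} {A : Fin m → Fin m → ℤ} {h : IsCartan (CoxeterMatrix.B m) A} {p : ℕ}
  {T : Subgroup Y} {X : (Fin m → ℤ) → Subgroup Y} {M : Ideal AlgInt}

/-- only the numbers modulo `p` are needed -/
theorem not_dvd_mod {ι : Type*} [Fintype ι] [DecidableEq ι] [hp : Fact p.Prime] {v a h w : ℕ} (hh : 0 < h) (hva : v ≤ a)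
    (ha : a ≤ m) (k : ι → ℕ) (hw : ∑ i, p ^ k i = w)
    (hm : v + h * w = m) (S : Finset (Fin m)) (hS : ∀ j, j ∈ S ↔ a ≤ (j : ℕ)) (N : Finset (Fin m) → ℤ)
    (hN : ∀ U ⊆ S, ((N U : ℤ) : ZMod p) = ((nch (dm (v := v) fun i => h * p ^ k i) U : ℤ) : ZMod p))
    (ht : tt p w ((a - v) / h) ≠ 0) :
    ¬ (p : ℤ) ∣ ∑ L ∈ S.powerset, (-1) ^ L.card * N (S \ L) := by
  have key := not_dvd hh hva ha k hw hm S hS (fun U => nch (dm (v := v) fun i => h * p ^ k i) U) (fun _ _ => rfl) ht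
  rw [← ZMod.intCast_zmod_eq_zero_iff_dvd] at key ⊢
  intro hcon
  apply key
  rw [← hcon, Int.cast_sum, Int.cast_sum]
  refine Finset.sum_congr rfl fun L _ => ?_
  rw [Int.cast_mul, Int.cast_mul, hN _ Finset.sdiff_subset]

/-- **(L-c)**, `w` blocks of size `e`, the numbers modulo `p`. -/
theorem gdC_of_mod [hp : Fact p.Prime] (hM : IsPModular p M) (P : Sylow p Y)
    {v e w a : ℕ} (he : 0 < e) (hva : v ≤ a) (ha : a ≤ m) (hm : v + e * w = m)
    (hcnt : ∀ U : Finset (Fin m), (∀ j ∈ U, a ≤ (j : ℕ)) →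
      ((cnt (P : Subgroup Y) (Y ⧸ PJ cs h T X ((Uᶜ : Finset (Fin m)) : Set (Fin m))) : ℕ) : ZMod p) =
        ((nch (dm (v := v) fun _ : Fin w => e) U : ℤ) : ZMod p))
    (ht : tt p w ((a - v) / e) ≠ 0) : GdC p M cs h T X a := by
  classical
  refine ⟨_, FV_beta (cs := cs) (h := h) (T := T) (X := X) hM P (ge a), ?_⟩
  have key := not_dvd_mod (m := m) (S := ge a) he hva ha (fun _ : Fin w => 0) (by simp) hm (fun j => mem_ge)
    (fun U => (cnt (P : Subgroup Y) (Y ⧸ PJ cs h T X ((Uᶜ : Finset (Fin m)) : Set (Fin m))) : ℤ))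
    (fun U hU => by
      have h1 := hcnt U fun j hj => mem_ge.1 (hU hj)
      simp only [pow_zero, mul_one]
      rw [← h1, Int.cast_natCast]) ht
  have e1 : ∀ L ∈ (ge a : Finset (Fin m)).powerset, ((ge a)ᶜ ∪ L : Finset (Fin m)) = (ge a \ L)ᶜ := by
    intro L hL
    have hL' := Finset.mem_powerset.1 hL
    ext j
    simp only [Finset.mem_union, Finset.mem_compl, Finset.mem_sdiff, not_and, not_not]
    constructor
    · rintro (h1 | h1) h2
      · exact absurd h2 h1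
      · exact h1
    · intro h1
      by_cases h2 : j ∈ (ge a : Finset (Fin m))
      · exact Or.inr (h1 h2)
      · exact Or.inl h2
  have e2 : ∑ L ∈ (ge a : Finset (Fin m)).powerset, (-1 : ℤ) ^ L.card *
      (cnt (P : Subgroup Y) (Y ⧸ PJ cs h T X (((ge a)ᶜ ∪ L : Finset (Fin m)) : Set (Fin m))) : ℤ) =
      ∑ L ∈ (ge a : Finset (Fin m)).powerset, (-1 : ℤ) ^ L.card *
        (cnt (P : Subgroup Y) (Y ⧸ PJ cs h T X (((ge a \ L)ᶜ : Finset (Fin m)) : Set (Fin m))) : ℤ) := by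
    refine Finset.sum_congr rfl fun L hL => ?_
    have e3 : (((ge a)ᶜ ∪ L : Finset (Fin m)) : Set (Fin m)) = (((ge a \ L)ᶜ : Finset (Fin m)) : Set (Fin m)) := by
      rw [e1 L hL]
    rw [e3]
  rw [e2]
  exact key

end Cfsg.Agent.H636.LIN
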