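import Cfsg.Agent.H636.LIN.Alt
import Cfsg.Agent.H674.XZ.Lucas

/-!
# The values modulo `p` (helper636, for S4791 / S4927)
-/

set_option autoImplicit false
set_option linter.unusedSectionVars false

namespace Cfsg.Agent.H636.LIN

open Finset Polynomial Cfsg.Agent.H674.XZ

variable {ι : Type*} [Fintype ι] [DecidableEq ι] {p : ℕ} [hp : Fact p.Prime]

/-- the sum of the first coefficients -/
theorem sum_coeff {κ : Type*} (s : Finset κ) (c : κ → ZMod p) (e : κ → ℕ) (N : ℕ) :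
    ∑ n ∈ range N, (∑ k ∈ s, C (c k) * X ^ e k : (ZMod p)[X]).coeff n = ∑ k ∈ s.filter (fun k => e k < N), c k := by
  have h1 : ∀ n, (∑ k ∈ s, C (c k) * X ^ e k : (ZMod p)[X]).coeff n = ∑ k ∈ s, if n = e k then c k else 0 := by
    intro n
    rw [finsetSum_coeff]
    exact sum_congr rfl fun k _ => coeff_C_mul_X_pow _ _ _
  rw [sum_congr rfl fun n _ => h1 n, sum_comm, sum_filter]
  refine sum_congr rfl fun k _ => ?_
  rw [Finset.sum_ite_eq' (range N) (e k) (fun _ => c k)]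
  simp only [mem_range]

theorem prod_expand (d : ι → ℕ) : (∏ i, (C (-1 : ZMod p) + C 2 * X ^ d i) : (ZMod p)[X]) =
    ∑ σ : Sg ι, C ((sgn σ : ℤ) : ZMod p) * X ^ wt d σ := by
  have h1 : ∀ i, (C (-1 : ZMod p) + C 2 * X ^ d i : (ZMod p)[X]) =
      ∑ t : Option Bool, (C (((if t = none then (-1 : ℤ) else 1 : ℤ)) : ZMod p) * X ^ (if t = none then 0 else d i)) := by
    intro i
    rw [Fintype.sum_option]
    simp only [reduceCtorEq, if_false, if_true, pow_zero, mul_one, Fintype.sum_bool, Int.cast_neg, Int.cast_one]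
    rw [← add_mul, ← C_add, one_add_one_eq_two]
  rw [prod_congr rfl fun i _ => h1 i, Finset.prod_univ_sum]
  refine Finset.sum_congr ?_ fun σ _ => ?_
  · exact Fintype.piFinset_univ
  · rw [prod_mul_distrib, prod_pow_eq_pow_sum]
    congr 1
    unfold sgn
    rw [← map_prod, ← Int.cast_prod]

theorem prod_frob (h : ℕ) (k : ι → ℕ) {w : ℕ} (hw : ∑ i, p ^ k i = w) :
    (∏ i, (C (-1 : ZMod p) + C 2 * X ^ (h * p ^ k i)) : (ZMod p)[X]) =
      ∑ j ∈ range (w + 1), C ((-1 : ZMod p) ^ w * ((w.choose j : ZMod p) * (-2) ^ j)) * X ^ (h * j) := by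
  have h1 : ∀ i, (C (-1 : ZMod p) + C 2 * X ^ (h * p ^ k i) : (ZMod p)[X]) = (C (-1) + C 2 * X ^ h) ^ p ^ k i := by
    intro i
    rw [add_pow_char_pow, mul_pow, ← map_pow, ← map_pow, ← pow_mul, ZMod.pow_card_pow, ZMod.pow_card_pow]
  rw [prod_congr rfl fun i _ => h1 i, prod_pow_eq_pow_sum, hw, add_comm, add_pow]
  refine sum_congr rfl fun j hj => ?_
  have hj' : j ≤ w := by have := mem_range.1 hj; omega
  rw [mul_pow, ← pow_mul]
  have h2 : ((-1 : ZMod p)) ^ w = (-1) ^ (w - j) * (-1) ^ j := by rw [← pow_add, Nat.sub_add_cancel hj']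
  have h3 : ((-1 : ZMod p)) ^ j * (-2) ^ j = 2 ^ j := by rw [← mul_pow]; norm_num
  have h4 : (-1 : ZMod p) ^ w * ((w.choose j : ZMod p) * (-2) ^ j) = 2 ^ j * (-1) ^ (w - j) * (w.choose j : ZMod p) := by
    rw [h2, ← h3]
    ring
  rw [h4]
  simp only [map_mul, map_pow]
  rw [C_eq_natCast]
  ring

/-- **the value modulo `p`** -/
theorem val_eq {v a h w : ℕ} (hh : 0 < h) (hva : v ≤ a) (k : ι → ℕ) (hw : ∑ i, p ^ k i = w) :
    ((∑ σ ∈ univ.filter (fun σ : Sg ι => v + wt (fun i => h * p ^ k i) σ < a + 1), sgn σ : ℤ) : ZMod p) =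
      (-1) ^ w * tt p w ((a - v) / h) := by
  have h1 := sum_coeff (p := p) (univ : Finset (Sg ι)) (fun σ => ((sgn σ : ℤ) : ZMod p)) (wt fun i => h * p ^ k i) (a - v + 1)
  rw [← prod_expand, prod_frob h k hw, sum_coeff] at h1
  have h2 : (univ.filter fun σ : Sg ι => v + wt (fun i => h * p ^ k i) σ < a + 1) =
      univ.filter fun σ : Sg ι => wt (fun i => h * p ^ k i) σ < a - v + 1 := by
    refine Finset.filter_congr fun σ _ => ?_
    omega
  rw [h2, Int.cast_sum, ← h1, ← mul_sum]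
  congr 1
  unfold tt
  have h3 : (range (w + 1)).filter (fun j => h * j < a - v + 1) = (range (w + 1)).filter fun j => j < (a - v) / h + 1 := by
    refine Finset.filter_congr fun j _ => ?_
    rw [Nat.lt_succ_iff, Nat.lt_succ_iff, Nat.le_div_iff_mul_le hh, mul_comm]
  rw [h3]
  refine sum_subset (fun j hj => mem_range.2 (mem_filter.1 hj).2) fun j hj hj' => ?_
  have h4 : w < j := by
    by_contra hcon
    exact hj' (mem_filter.2 ⟨mem_range.2 (by omega), mem_range.1 hj⟩)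
  rw [Nat.choose_eq_zero_of_lt h4, Nat.cast_zero, zero_mul]

/-- **(L-c), final form** -/
theorem not_dvd {m v a h w : ℕ} (hh : 0 < h) (hva : v ≤ a) (ha : a ≤ m) (k : ι → ℕ) (hw : ∑ i, p ^ k i = w)
    (hm : v + h * w = m) (S : Finset (Fin m)) (hS : ∀ j, j ∈ S ↔ a ≤ (j : ℕ)) (N : Finset (Fin m) → ℤ)
    (hN : ∀ U ⊆ S, N U = nch (dm (v := v) fun i => h * p ^ k i) U) (ht : tt p w ((a - v) / h) ≠ 0) :
    ¬ (p : ℤ) ∣ ∑ L ∈ S.powerset, (-1) ^ L.card * N (S \ L) := by
  have hpp := hp.out.pos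
  rw [alt_sum (fun i => h * p ^ k i) (fun i => by positivity) (by rw [← mul_sum, hw, hm]) ha S hS N hN,
    ← ZMod.intCast_zmod_eq_zero_iff_dvd, Int.cast_mul, val_eq hh hva k hw, Int.cast_pow, Int.cast_neg, Int.cast_one]
  exact mul_ne_zero (pow_ne_zero _ (neg_ne_zero.2 one_ne_zero)) (mul_ne_zero (pow_ne_zero _ (neg_ne_zero.2 one_ne_zero)) ht)

open scoped Classical in
/-- the number of good `a` -/
theorem card_good {m v h w : ℕ} (hh : 0 < h) (hm : v + h * w = m) :
    ((Finset.Ico v m).filter fun a => tt p w ((a - v) / h) ≠ 0).card = h * ((range w).filter fun j => tt p w j ≠ 0).card := by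
  rw [← card_range h, ← card_product, card_range]
  symm
  refine card_bij' (fun x _ => v + (h * x.2 + x.1)) (fun a _ => ((a - v) % h, (a - v) / h)) ?_ ?_ ?_ ?_
  · rintro ⟨i, j⟩ hx
    rw [mem_product, mem_range, mem_filter, mem_range] at hx
    obtain ⟨h1, h2, h3⟩ := hx
    have h4 : h * (j + 1) ≤ h * w := Nat.mul_le_mul_left h h2
    rw [Nat.mul_succ] at h4
    dsimp only at h1 h3 h4
    rw [mem_filter, mem_Ico]
    dsimp only
    refine ⟨⟨Nat.le_add_right _ _, by omega⟩, ?_⟩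
    rw [Nat.add_sub_cancel_left, Nat.mul_add_div hh, Nat.div_eq_of_lt h1, add_zero]
    exact h3
  · intro a ha
    rw [mem_filter, mem_Ico] at ha
    rw [mem_product, mem_range, mem_filter, mem_range]
    refine ⟨Nat.mod_lt _ hh, ?_, ha.2⟩
    rw [Nat.div_lt_iff_lt_mul hh, mul_comm]
    omega
  · rintro ⟨i, j⟩ hx
    rw [mem_product, mem_range, mem_filter, mem_range] at hx
    have h1 : i < h := hx.1
    dsimp only
    rw [Nat.add_sub_cancel_left, Nat.mul_add_mod, Nat.mod_eq_of_lt h1, Nat.mul_add_div hh, Nat.div_eq_of_lt h1, add_zero]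
  · intro a ha
    rw [mem_filter, mem_Ico] at ha
    dsimp only
    rw [Nat.div_add_mod]
    omega

open scoped Classical in
/-- `2 ≤ w` -/
theorem two_mul_le_card_good (h5 : 5 ≤ p) {m v h w : ℕ} (hh : 0 < h) (hm : v + h * w = m) (hw : 2 ≤ w) :
    2 * h ≤ ((Finset.Ico v m).filter fun a => tt p w ((a - v) / h) ≠ 0).card := by
  rw [card_good hh hm, mul_comm]
  exact Nat.mul_le_mul_left h (two_le_card p h5 hw)

open scoped Classical in
/-- `p ≤ w` -/
theorem mul_p_le_card_good {m v h w : ℕ} (hh : 0 < h) (hm : v + h * w = m) (hw : p ≤ w) :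
    h * p ≤ ((Finset.Ico v m).filter fun a => tt p w ((a - v) / h) ≠ 0).card := by
  rw [card_good hh hm]
  exact Nat.mul_le_mul_left h (p_le_card p hw)

end Cfsg.Agent.H636.LIN
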