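import Cfsg.Agent.H636.LIN.DE
import Cfsg.Agent.H636.LIN.Val

/-!
# Type `D`, the values modulo `p` and the number of good nodes (helper636, for S4791 / S4927)
-/

set_option autoImplicit false
set_option linter.unusedSectionVars false

namespace Cfsg.Agent.H636.LIN

open Finset Cfsg.Agent.H674.XZ

variable {p : ℕ} [hp : Fact p.Prime]

/-- the value of `TT` modulo `p`, `w` blocks of size `e` -/
theorem TT_eq {v a e w : ℕ} (he : 0 < e) (hva : v ≤ a) :
    ((TT (ι := Fin w) (fun _ => e) v (a + 1) : ℤ) : ZMod p) = (-1) ^ w * tt p w ((a - v) / e) := by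
  have h1 := val_eq (ι := Fin w) (p := p) he hva (fun _ => 0) (w := w) (by simp)
  simp only [pow_zero, mul_one] at h1
  exact h1

/-- the corrected number of chains -/
def Nfix {α : Type*} [Fintype α] [DecidableEq α] [PartialOrder α] [DecidableLE α] [DecidableLT α] {m : ℕ} (D : α → ℕ) (i j : Fin m)
    (U : Finset (Fin m)) : ℤ :=
  if i ∈ U then (if j ∈ U then nch D (U.erase j) else 0) else nch D U

omit hp in
theorem diff_dvd {m : ℕ} {a : ℕ} (i j : Fin m) (hij : (j : ℕ) = i + 1) (hj : (j : ℕ) + 1 = m) (ha : a ≤ i)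
    (S : Finset (Fin m)) (hS : ∀ k, k ∈ S ↔ a ≤ (k : ℕ)) (f : Finset (Fin m) → ℤ)
    (hf : ∀ U : Finset (Fin m), (∀ k ∈ U, a ≤ (k : ℕ) ∧ (k : ℕ) < i) →
      (p : ℤ) ∣ f U - f (insert i U) - f (insert j U) + f (insert j (insert i U))) :
    (p : ℤ) ∣ ∑ L ∈ S.powerset, (-1) ^ L.card * f (S \ L) := by
  let S' : Finset (Fin m) := univ.filter fun k => a ≤ (k : ℕ) ∧ (k : ℕ) < i
  have hne : i ≠ j := fun e => by rw [e] at hij; omega
  have hi' : i ∉ S' := fun h => lt_irrefl _ (mem_filter.1 h).2.2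
  have hj' : j ∉ S' := fun h => by have := (mem_filter.1 h).2.2; omega
  have hSS : S = insert j (insert i S') := by
    ext k
    rw [hS, mem_insert, mem_insert, mem_filter]
    constructor
    · intro hk
      have hk2 := k.2
      by_cases h3 : (k : ℕ) = j
      · exact Or.inl (Fin.ext h3)
      · by_cases h4 : (k : ℕ) = i
        · exact Or.inr (Or.inl (Fin.ext h4))
        · exact Or.inr (Or.inr ⟨mem_univ _, hk, by omega⟩)
    · rintro (rfl | rfl | h)
      · omega
      · exact ha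
      · exact h.2.1
  have e1 : ∑ L ∈ S.powerset, (-1) ^ L.card * f (S \ L) = (-1) ^ S.card * ∑ U ∈ S.powerset, (-1) ^ U.card * f U := by
    rw [mul_sum]
    refine sum_bij' (fun L _ => S \ L) (fun U _ => S \ U) ?_ ?_ ?_ ?_ ?_
    · exact fun L _ => mem_powerset.2 sdiff_subset
    · exact fun L _ => mem_powerset.2 sdiff_subset
    · intro L hL
      exact Finset.sdiff_sdiff_eq_self (mem_powerset.1 hL)
    · intro L hL
      exact Finset.sdiff_sdiff_eq_self (mem_powerset.1 hL)
    · intro L hL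
      have hL' := mem_powerset.1 hL
      rw [← mul_assoc]
      congr 1
      have h3 := card_sdiff_add_card_eq_card hL'
      rw [← h3, pow_add, mul_comm ((-1 : ℤ) ^ (S \ L).card) ((-1) ^ L.card), mul_assoc, ← mul_pow]
      simp
  rw [e1]
  refine Dvd.dvd.mul_left ?_ _
  rw [hSS, sum_powerset_two hne hi' hj']
  refine dvd_sum fun U hU => Dvd.dvd.mul_left (hf U fun k hk => ?_) _
  exact (mem_filter.1 (mem_powerset.1 hU hk)).2

theorem not_dvd_gen {α : Type*} [Fintype α] [DecidableEq α] [PartialOrder α] [DecidableLE α] [DecidableLT α] {m : ℕ} {D : α → ℕ}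
    {a : ℕ} (i j : Fin m) (hij : (j : ℕ) = i + 1) (hj : (j : ℕ) + 1 = m) (ha : a ≤ i)
    (S : Finset (Fin m)) (hS : ∀ k, k ∈ S ↔ a ≤ (k : ℕ)) {x : ℤ}
    (hx : ∀ N : Finset (Fin m) → ℤ, (∀ U : Finset (Fin m), (∀ k ∈ U, a ≤ (k : ℕ) ∧ (k : ℕ) < i) → N U = nch D U) →
      (∀ U : Finset (Fin m), (∀ k ∈ U, a ≤ (k : ℕ) ∧ (k : ℕ) < i) → N (insert i U) + N (insert j U) = nch D (insert j U)) →
      (∀ U : Finset (Fin m), (∀ k ∈ U, a ≤ (k : ℕ) ∧ (k : ℕ) < i) → N (insert j (insert i U)) = nch D (insert i U)) →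
      ∑ L ∈ S.powerset, (-1) ^ L.card * N (S \ L) = x)
    (N : Finset (Fin m) → ℤ)
    (h0 : ∀ U : Finset (Fin m), (∀ k ∈ U, a ≤ (k : ℕ) ∧ (k : ℕ) < i) → ((N U : ℤ) : ZMod p) = (nch D U : ℤ))
    (h1 : ∀ U : Finset (Fin m), (∀ k ∈ U, a ≤ (k : ℕ) ∧ (k : ℕ) < i) →
      ((N (insert i U) + N (insert j U) : ℤ) : ZMod p) = (nch D (insert j U) : ℤ))
    (h11 : ∀ U : Finset (Fin m), (∀ k ∈ U, a ≤ (k : ℕ) ∧ (k : ℕ) < i) →
      ((N (insert j (insert i U)) : ℤ) : ZMod p) = (nch D (insert i U) : ℤ)) (hxp : ¬ (p : ℤ) ∣ x) :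
    ¬ (p : ℤ) ∣ ∑ L ∈ S.powerset, (-1) ^ L.card * N (S \ L) := by
  have hne : i ≠ j := fun e => by rw [e] at hij; omega
  have hn : ∀ U : Finset (Fin m), (∀ k ∈ U, a ≤ (k : ℕ) ∧ (k : ℕ) < i) → i ∉ U ∧ j ∉ U := fun U hU =>
    ⟨fun h => lt_irrefl _ (hU i h).2, fun h => by have := (hU j h).2; omega⟩
  have g0 : ∀ U : Finset (Fin m), (∀ k ∈ U, a ≤ (k : ℕ) ∧ (k : ℕ) < i) → Nfix D i j U = nch D U := fun U hU =>
    if_neg (hn U hU).1
  have g1 : ∀ U : Finset (Fin m), (∀ k ∈ U, a ≤ (k : ℕ) ∧ (k : ℕ) < i) →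
      Nfix D i j (insert i U) + Nfix D i j (insert j U) = nch D (insert j U) := fun U hU => by
    have e1 : Nfix D i j (insert i U) = 0 := by
      rw [Nfix, if_pos (mem_insert_self _ _), if_neg]
      intro h
      rcases mem_insert.1 h with h | h
      · exact hne h.symm
      · exact (hn U hU).2 h
    have e2 : Nfix D i j (insert j U) = nch D (insert j U) := by
      rw [Nfix, if_neg]
      intro h
      rcases mem_insert.1 h with h | h
      · exact hne h
      · exact (hn U hU).1 h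
    rw [e1, e2, zero_add]
  have g11 : ∀ U : Finset (Fin m), (∀ k ∈ U, a ≤ (k : ℕ) ∧ (k : ℕ) < i) →
      Nfix D i j (insert j (insert i U)) = nch D (insert i U) := fun U hU => by
    have e1 : j ∉ insert i U := by
      intro h
      rcases mem_insert.1 h with h | h
      · exact hne h.symm
      · exact (hn U hU).2 h
    rw [Nfix, if_pos (mem_insert_of_mem (mem_insert_self _ _)), if_pos (mem_insert_self _ _), erase_insert e1]
  have key := hx _ g0 g1 g11
  have h3 := diff_dvd (p := p) i j hij hj ha S hS (fun U => N U - Nfix D i j U) (fun U hU => by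
    have k0 := h0 U hU
    have k1 := h1 U hU
    have k11 := h11 U hU
    rw [← g0 U hU] at k0
    rw [← g1 U hU] at k1
    rw [← g11 U hU] at k11
    rw [← ZMod.intCast_zmod_eq_zero_iff_dvd]
    push_cast at k0 k1 k11 ⊢
    linear_combination k0 - k1 + k11)
  intro hcon
  apply hxp
  rw [← key]
  have e : ∑ L ∈ S.powerset, (-1) ^ L.card * Nfix D i j (S \ L) =
      ∑ L ∈ S.powerset, (-1) ^ L.card * N (S \ L) - ∑ L ∈ S.powerset, (-1) ^ L.card * (N (S \ L) - Nfix D i j (S \ L)) := by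
    rw [← sum_sub_distrib]
    exact sum_congr rfl fun L _ => by ring
  rw [e]
  exact dvd_sub hcon h3

theorem not_dvd_unit {x : ℤ} {n : ℕ} {y : ZMod p} (hx : ((x : ℤ) : ZMod p) = (-1) ^ n * y) (hy : y ≠ 0) (k : ℕ) :
    ¬ (p : ℤ) ∣ (-1) ^ k * x := by
  rw [← ZMod.intCast_zmod_eq_zero_iff_dvd]
  push_cast
  rw [hx]
  exact mul_ne_zero (pow_ne_zero _ (neg_ne_zero.2 one_ne_zero)) (mul_ne_zero (pow_ne_zero _ (neg_ne_zero.2 one_ne_zero)) hy)

/-- **`V_0 = 0`** -/
theorem not_dvd_D0 {m a e w : ℕ} (he : 0 < e) (hm : e * w = m) (i j : Fin m)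
    (hij : (j : ℕ) = i + 1) (hj : (j : ℕ) + 1 = m) (ha : a ≤ i)
    (S : Finset (Fin m)) (hS : ∀ k, k ∈ S ↔ a ≤ (k : ℕ)) (N : Finset (Fin m) → ℤ)
    (h0 : ∀ U : Finset (Fin m), (∀ k ∈ U, a ≤ (k : ℕ) ∧ (k : ℕ) < i) → ((N U : ℤ) : ZMod p) = (nch (wt fun _ : Fin w => e) U : ℤ))
    (h1 : ∀ U : Finset (Fin m), (∀ k ∈ U, a ≤ (k : ℕ) ∧ (k : ℕ) < i) →
      ((N (insert i U) + N (insert j U) : ℤ) : ZMod p) = (nch (wt fun _ : Fin w => e) (insert j U) : ℤ))
    (h11 : ∀ U : Finset (Fin m), (∀ k ∈ U, a ≤ (k : ℕ) ∧ (k : ℕ) < i) →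
      ((N (insert j (insert i U)) : ℤ) : ZMod p) = (nch (wt fun _ : Fin w => e) (insert i U) : ℤ))
    (ht : tt p w (a / e) ≠ 0) :
    ¬ (p : ℤ) ∣ ∑ L ∈ S.powerset, (-1) ^ L.card * N (S \ L) := by
  refine not_dvd_gen (D := wt fun _ : Fin w => e) i j hij hj ha S hS (fun N' k0 k1 k11 => alt_sum_D0 (fun _ : Fin w => e) (fun _ => he)
    (by rw [sum_const, card_univ, Fintype.card_fin, smul_eq_mul, mul_comm, hm]) i j hij hj ha S hS N' k0 k1 k11) N h0 h1 h11 ?_
  have h := TT_eq (p := p) (v := 0) (a := a) (w := w) he (Nat.zero_le _)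
  rw [Nat.sub_zero] at h
  exact not_dvd_unit h ht _

/-- **`V_0 ≠ 0` of `+` type** -/
theorem not_dvd_DV {m v a e w : ℕ} (hv : 0 < v) (he : 2 ≤ e) (hm : v + e * w = m) (i j : Fin m)
    (hij : (j : ℕ) = i + 1) (hj : (j : ℕ) + 1 = m) (hva : v ≤ a) (ha : a ≤ i)
    (S : Finset (Fin m)) (hS : ∀ k, k ∈ S ↔ a ≤ (k : ℕ)) (N : Finset (Fin m) → ℤ)
    (h0 : ∀ U : Finset (Fin m), (∀ k ∈ U, a ≤ (k : ℕ) ∧ (k : ℕ) < i) →
      ((N U : ℤ) : ZMod p) = (nch (ddm (v := v) fun _ : Fin w => e) U : ℤ))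
    (h1 : ∀ U : Finset (Fin m), (∀ k ∈ U, a ≤ (k : ℕ) ∧ (k : ℕ) < i) →
      ((N (insert i U) + N (insert j U) : ℤ) : ZMod p) = (nch (ddm (v := v) fun _ : Fin w => e) (insert j U) : ℤ))
    (h11 : ∀ U : Finset (Fin m), (∀ k ∈ U, a ≤ (k : ℕ) ∧ (k : ℕ) < i) →
      ((N (insert j (insert i U)) : ℤ) : ZMod p) = (nch (ddm (v := v) fun _ : Fin w => e) (insert i U) : ℤ))
    (ht : 2 * tt p w ((a - v) / e) - tt p w ((a - v + 1) / e) ≠ 0) :
    ¬ (p : ℤ) ∣ ∑ L ∈ S.powerset, (-1) ^ L.card * N (S \ L) := by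
  refine not_dvd_gen (D := ddm (v := v) fun _ : Fin w => e) i j hij hj ha S hS (fun N' k0 k1 k11 => alt_sum_DV hv (fun _ : Fin w => e)
    (fun _ => he) (by rw [sum_const, card_univ, Fintype.card_fin, smul_eq_mul, mul_comm w e, hm]) i j hij hj ha S hS N' k0 k1 k11) N h0 h1
    h11 ?_
  have h := TT_eq (p := p) (v := v) (a := a) (w := w) (e := e) (by omega) hva
  have h' := TT_eq (p := p) (v := v - 1) (a := a) (w := w) (e := e) (by omega) (by omega)
  have e1 : a - (v - 1) = a - v + 1 := by omega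
  rw [e1] at h'
  refine not_dvd_unit (n := w) (y := 2 * tt p w ((a - v) / e) - tt p w ((a - v + 1) / e)) ?_ ht _
  push_cast
  rw [h, h']
  ring

/-! ### the good nodes -/

theorem choose_ne {w j : ℕ} (hw : w < p) (hj : j ≤ w) : (w.choose j : ZMod p) ≠ 0 := by
  rw [Ne, ZMod.natCast_eq_zero_iff]
  intro h
  have h1 : p ∣ w.factorial := by
    rw [← Nat.choose_mul_factorial_mul_factorial hj]
    exact Dvd.dvd.mul_right (Dvd.dvd.mul_right h _) _
  exact absurd ((hp.out.dvd_factorial).1 h1) (by omega)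

theorem two_ne (h11 : 11 ≤ p) : (2 : ZMod p) ≠ 0 := by
  have h : ((2 : ℕ) : ZMod p) ≠ 0 := by
    rw [Ne, ZMod.natCast_eq_zero_iff]
    exact fun h => by have := Nat.le_of_dvd (by norm_num) h; omega
  exact_mod_cast h

theorem num_ne {n : ℕ} (h0 : 0 < n) (hn : n < p) : (n : ZMod p) ≠ 0 := by
  rw [Ne, ZMod.natCast_eq_zero_iff]
  exact fun h => by have := Nat.le_of_dvd h0 h; omega

theorem tt_or (h11 : 11 ≤ p) {w j : ℕ} (hw : w < p) (hj : j + 1 ≤ w) : tt p w j ≠ 0 ∨ tt p w (j + 1) ≠ 0 := by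
  by_contra hcon
  push Not at hcon
  have h1 := tt_succ p w j
  rw [hcon.1, hcon.2, zero_add] at h1
  exact mul_ne_zero (choose_ne hw hj) (pow_ne_zero _ (neg_ne_zero.2 (two_ne h11))) h1.symm

theorem tt_one (w : ℕ) : tt p w 1 = 1 - 2 * w := by
  have h1 := tt_succ p w 0
  rw [zero_add, tt_zero, Nat.choose_one_right, pow_one] at h1
  rw [h1]
  ring

theorem tt_two (w : ℕ) : tt p w 2 = 1 - 2 * w + 2 * (w * (w - 1)) := by
  have h1 := tt_succ p w 1
  rw [tt_one] at h1
  have h6 : ((w.choose 2 : ℕ) : ZMod p) * 2 = (w : ZMod p) * ((w : ZMod p) - 1) := by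
    rcases Nat.eq_zero_or_pos w with rfl | hw
    · simp
    have h7 := Nat.choose_two_right w
    have h8 : w.choose 2 * 2 = w * (w - 1) := by
      rw [h7]
      exact Nat.div_mul_cancel (Nat.even_mul_pred_self w).two_dvd
    have h9 : ((w.choose 2 * 2 : ℕ) : ZMod p) = ((w * (w - 1) : ℕ) : ZMod p) := by rw [h8]
    push_cast [Nat.cast_sub hw] at h9
    exact h9
  have h2 : tt p w 2 = 1 - 2 * w + (w.choose 2 : ZMod p) * (-2) ^ 2 := h1
  rw [h2]
  linear_combination 2 * h6

open scoped Classical in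
theorem three_le_card (h11 : 11 ≤ p) {w : ℕ} (hw : 3 ≤ w) : 3 ≤ ((range w).filter fun j => tt p w j ≠ 0).card := by
  rcases le_or_gt p w with hpw | hpw
  · exact le_trans (by omega) (p_le_card p hpw)
  have key : ∃ a b, 0 < a ∧ a < b ∧ b < w ∧ tt p w a ≠ 0 ∧ tt p w b ≠ 0 := by
    rcases lt_or_ge 4 w with h5 | h5
    · rcases tt_or h11 hpw (show 1 + 1 ≤ w by omega) with h1 | h1 <;>
        rcases tt_or h11 hpw (show 3 + 1 ≤ w by omega) with h2 | h2
      · exact ⟨1, 3, by omega, by omega, by omega, h1, h2⟩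
      · exact ⟨1, 4, by omega, by omega, by omega, h1, h2⟩
      · exact ⟨2, 3, by omega, by omega, by omega, h1, h2⟩
      · exact ⟨2, 4, by omega, by omega, by omega, h1, h2⟩
    · have h34 : w = 3 ∨ w = 4 := by omega
      rcases h34 with rfl | rfl
      · refine ⟨1, 2, by omega, by omega, by omega, ?_, ?_⟩
        · rw [tt_one]
          have h := num_ne (p := p) (n := 5) (by norm_num) (by omega)
          intro h0
          apply h
          push_cast at h0 ⊢
          linear_combination -h0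
        · rw [tt_two]
          have h := num_ne (p := p) (n := 7) (by norm_num) (by omega)
          intro h0
          apply h
          push_cast at h0 ⊢
          linear_combination h0
      · refine ⟨1, 3, by omega, by omega, by omega, ?_, ?_⟩
        · rw [tt_one]
          have h := num_ne (p := p) (n := 7) (by norm_num) (by omega)
          intro h0
          apply h
          push_cast at h0 ⊢
          linear_combination -h0
        · have h3 := tt_succ p 4 2
          rw [tt_two] at h3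
          have h4 : tt p 4 3 = 1 - 2 * ((4 : ℕ) : ZMod p) + 2 * (((4 : ℕ) : ZMod p) * (((4 : ℕ) : ZMod p) - 1)) +
              ((Nat.choose 4 3 : ℕ) : ZMod p) * (-2) ^ 3 := h3
          rw [h4]
          have e : Nat.choose 4 3 = 4 := by decide
          rw [e]
          have h5' := num_ne (p := p) (n := 3) (by norm_num) (by omega)
          have h5'' := num_ne (p := p) (n := 5) (by norm_num) (by omega)
          intro h0
          apply mul_ne_zero h5' h5''
          push_cast at h0 ⊢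
          linear_combination -h0
  obtain ⟨a, b, h1, h2, h3, h4, h5⟩ := key
  have h6 : ({0, a, b} : Finset ℕ) ⊆ (range w).filter fun j => tt p w j ≠ 0 := by
    intro i hi
    rw [mem_insert, mem_insert, mem_singleton] at hi
    rw [mem_filter, mem_range]
    rcases hi with rfl | rfl | rfl
    · rw [tt_zero]
      exact ⟨by omega, one_ne_zero⟩
    · exact ⟨by omega, h4⟩
    · exact ⟨h3, h5⟩
  have h7 := card_le_card h6
  rwa [card_insert_of_notMem (by simp; omega), card_pair h2.ne] at h7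

/-- one more node, `V_0 ≠ 0` -/
theorem exists_u (h11 : 11 ≤ p) {w : ℕ} (hw : 2 ≤ w) : ∃ j, j + 2 ≤ w ∧ 2 * tt p w j - tt p w (j + 1) ≠ 0 := by
  by_cases h0 : 2 * tt p w 0 - tt p w 1 = 0
  · rw [tt_zero, tt_one] at h0
    have hw3 : 3 ≤ w := by
      by_contra hcon
      have h2 : w = 2 := by omega
      subst h2
      have h := num_ne (p := p) (n := 5) (by norm_num) (by omega)
      apply h
      push_cast at h0 ⊢
      linear_combination h0
    refine ⟨1, hw3, fun h1 => ?_⟩
    have h2 : tt p w (1 + 1) = 1 - 2 * w + 2 * (w * (w - 1)) := tt_two w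
    rw [tt_one, h2] at h1
    -- `2 w = -1`, `1 = 2 w ^ 2`
    have h3 : (w : ZMod p) * 2 = -1 := by linear_combination h0
    have h4 : (1 : ZMod p) + w = 0 := by linear_combination h1 + (w : ZMod p) * h3
    have h5 : (1 : ZMod p) = 0 := by linear_combination 2 * h4 - h3
    exact one_ne_zero h5
  · exact ⟨0, hw, h0⟩

open scoped Classical in
/-- **the good nodes, `V_0 = 0`** -/
theorem exists_goodD0 (h11 : 11 ≤ p) {m e w : ℕ} (he : 0 < e) (hm : e * w = m) (hw : 2 ≤ w) {Q : ℕ → Prop} (hQm : Q m)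
    (hQ : ∀ a, a + 1 < m → tt p w (a / e) ≠ 0 → Q a) (hQ1 : ¬ (p : ℤ) ∣ 2 ^ (w - 1) - 1 → Q (m - 1)) :
    ∃ s : Finset ℕ, (∀ a ∈ s, a ≤ m ∧ Q a) ∧ 2 * e + 1 ≤ s.card ∧ (p ≤ w → e * p ≤ s.card) := by
  have hm1 : 0 < m := by
    rw [← hm]
    positivity
  have h1 := card_good (p := p) (m := m) (v := 0) (h := e) (w := w) he (by omega)
  simp only [Nat.sub_zero] at h1
  set s0 := (Finset.Ico 0 m).filter fun a => tt p w (a / e) ≠ 0 with hs0
  have h2 : s0.card - 1 ≤ (s0.erase (m - 1)).card := pred_card_le_card_erase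
  have hmem : ∀ a ∈ s0.erase (m - 1), a + 1 < m ∧ tt p w (a / e) ≠ 0 := by
    intro a ha
    rw [mem_erase, hs0, mem_filter, mem_Ico] at ha
    exact ⟨by omega, ha.2.2⟩
  have hmn : m ∉ s0.erase (m - 1) := fun h => by have := (hmem m h).1; omega
  have hm1n : m - 1 ∉ s0.erase (m - 1) := notMem_erase _ _
  rcases hw.eq_or_lt with hw2 | hw3
  · have h3 := two_le_card p (by omega) hw
    have h4 := Nat.mul_le_mul_left e h3
    refine ⟨insert m (insert (m - 1) (s0.erase (m - 1))), ?_, ?_, ?_⟩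
    · intro a ha
      rcases mem_insert.1 ha with rfl | ha
      · exact ⟨le_rfl, hQm⟩
      rcases mem_insert.1 ha with rfl | ha
      · refine ⟨Nat.sub_le _ _, hQ1 ?_⟩
        rw [← hw2]
        norm_num
        intro h5
        have := Int.le_of_dvd one_pos h5
        omega
      · have := hmem a ha
        exact ⟨by omega, hQ a this.1 this.2⟩
    · rw [card_insert_of_notMem, card_insert_of_notMem hm1n]
      · omega
      · intro h
        rcases mem_insert.1 h with h | h
        · omega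
        · exact hmn h
    · intro hpw
      omega
  · have h3 := three_le_card h11 (show 3 ≤ w by omega)
    have h4 := Nat.mul_le_mul_left e h3
    refine ⟨insert m (s0.erase (m - 1)), ?_, ?_, ?_⟩
    · intro a ha
      rcases mem_insert.1 ha with rfl | ha
      · exact ⟨le_rfl, hQm⟩
      · have := hmem a ha
        exact ⟨by omega, hQ a this.1 this.2⟩
    · rw [card_insert_of_notMem hmn]
      omega
    · intro hpw
      have h5 := Nat.mul_le_mul_left e (p_le_card p hpw)
      rw [card_insert_of_notMem hmn]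
      omega

open scoped Classical in
/-- **the good nodes, `V_0 ≠ 0` of `+` type** -/
theorem exists_goodDV (h11 : 11 ≤ p) {m v e w : ℕ} (he : 2 ≤ e) (hm : v + e * w = m) (hw : 2 ≤ w) {Q : ℕ → Prop}
    (hQm : Q m) (hQ : ∀ a, v ≤ a → a + 1 < m → 2 * tt p w ((a - v) / e) - tt p w ((a - v + 1) / e) ≠ 0 → Q a)
    (hQ1 : ¬ (p : ℤ) ∣ 2 ^ w - 1 → Q (m - 1)) :
    ∃ s : Finset ℕ, (∀ a ∈ s, a ≤ m ∧ Q a) ∧ 2 * e + 1 ≤ s.card ∧ (p ≤ w → p + 1 ≤ s.card) := by
  have he0 : 0 < e := by omega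
  set G := (range w).filter fun j => tt p w j ≠ 0 with hG
  obtain ⟨j0, hj0, hu⟩ := exists_u h11 hw
  let s1 : Finset ℕ := (range (e - 1) ×ˢ G).image fun x => v + (e * x.2 + x.1)
  have hdiv : ∀ i j, i < e → (e * j + i) / e = j := fun i j hi => by
    rw [Nat.mul_add_div he0, Nat.div_eq_of_lt hi, add_zero]
  have hs1 : ∀ a ∈ s1, v ≤ a ∧ a + 1 < m ∧ (a - v) % e < e - 1 ∧ Q a := by
    intro a ha
    obtain ⟨⟨i, j⟩, hx, rfl⟩ := mem_image.1 ha
    rw [mem_product, mem_range, hG, mem_filter, mem_range] at hx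
    obtain ⟨h1, h2, h3⟩ := hx
    dsimp only at h1 h2 h3 ⊢
    have h4 : e * (j + 1) ≤ e * w := Nat.mul_le_mul_left e h2
    rw [Nat.mul_succ] at h4
    refine ⟨Nat.le_add_right _ _, by omega, ?_, hQ _ (Nat.le_add_right _ _) (by omega) ?_⟩
    · rw [Nat.add_sub_cancel_left, Nat.mul_add_mod, Nat.mod_eq_of_lt (by omega)]
      exact h1
    · rw [Nat.add_sub_cancel_left, hdiv i j (by omega), add_assoc, hdiv (i + 1) j (by omega)]
      have e2 : 2 * tt p w j - tt p w j = tt p w j := by ring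
      rw [e2]
      exact h3
  have hc1 : s1.card = (e - 1) * G.card := by
    have h1 : s1.card = (range (e - 1) ×ˢ G).card := by
      refine card_image_of_injOn ?_
      rintro ⟨i, j⟩ hx ⟨i', j'⟩ hx' heq
      have hx1 := (mem_product.1 (mem_coe.1 hx)).1
      have hx1' := (mem_product.1 (mem_coe.1 hx')).1
      rw [mem_range] at hx1 hx1'
      dsimp only at heq hx1 hx1'
      have h2 : e * j + i = e * j' + i' := by omega
      have h3 : j = j' := by rw [← hdiv i j (by omega), h2, hdiv i' j' (by omega)]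
      subst h3
      have h4 : i = i' := by omega
      rw [h4]
    rw [h1, card_product, card_range]
  let b : ℕ := v + (e * j0 + (e - 1))
  have hb4 : e * (j0 + 2) ≤ e * w := Nat.mul_le_mul_left e hj0
  have hb5 : e * (j0 + 2) = e * j0 + e + e := by ring
  have hb1 : v ≤ b ∧ b + 1 < m := by
    refine ⟨Nat.le_add_right _ _, ?_⟩
    change v + (e * j0 + (e - 1)) + 1 < m
    omega
  have hbQ : Q b := by
    refine hQ b hb1.1 hb1.2 ?_
    have h1 : b - v = e * j0 + (e - 1) := Nat.add_sub_cancel_left _ _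
    have h2 : e * j0 + (e - 1) + 1 = e * (j0 + 1) + 0 := by
      rw [Nat.mul_succ]
      omega
    rw [h1, hdiv _ _ (by omega), h2, hdiv _ _ he0]
    exact hu
  have hbs : b ∉ s1 := by
    intro h
    have h1 := (hs1 b h).2.2.1
    have h2 : b - v = e * j0 + (e - 1) := Nat.add_sub_cancel_left _ _
    rw [h2, Nat.mul_add_mod, Nat.mod_eq_of_lt (by omega)] at h1
    omega
  have hms : m ∉ insert b s1 := by
    intro h
    rcases mem_insert.1 h with h | h
    · omega
    · have := (hs1 m h).2.1; omega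
  rcases hw.eq_or_lt with hw2 | hw3
  · have h3 : 2 ≤ G.card := two_le_card p (by omega) hw
    have h4 := Nat.mul_le_mul_left (e - 1) h3
    have hm1s : m - 1 ∉ insert b s1 := by
      intro h
      rcases mem_insert.1 h with h | h
      · omega
      · have := (hs1 _ h).2.1; omega
    refine ⟨insert m (insert (m - 1) (insert b s1)), ?_, ?_, ?_⟩
    · intro a ha
      rcases mem_insert.1 ha with rfl | ha
      · exact ⟨le_rfl, hQm⟩
      rcases mem_insert.1 ha with rfl | ha
      · refine ⟨Nat.sub_le _ _, hQ1 ?_⟩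
        rw [← hw2]
        norm_num
        intro h5
        have := Int.le_of_dvd (by norm_num) h5
        omega
      rcases mem_insert.1 ha with rfl | ha
      · exact ⟨by omega, hbQ⟩
      · have := hs1 a ha
        exact ⟨by omega, this.2.2.2⟩
    · rw [card_insert_of_notMem, card_insert_of_notMem hm1s, card_insert_of_notMem hbs, hc1]
      · omega
      · intro h
        rcases mem_insert.1 h with h | h
        · omega
        · exact hms h
    · intro hpw
      omega
  · have h3 : 3 ≤ G.card := three_le_card h11 (show 3 ≤ w by omega)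
    have h4 := Nat.mul_le_mul_left (e - 1) h3
    refine ⟨insert m (insert b s1), ?_, ?_, ?_⟩
    · intro a ha
      rcases mem_insert.1 ha with rfl | ha
      · exact ⟨le_rfl, hQm⟩
      rcases mem_insert.1 ha with rfl | ha
      · exact ⟨by omega, hbQ⟩
      · have := hs1 a ha
        exact ⟨by omega, this.2.2.2⟩
    · rw [card_insert_of_notMem hms, card_insert_of_notMem hbs, hc1]
      omega
    · intro hpw
      have h6 : p ≤ G.card := p_le_card p hpw
      have h5 := Nat.mul_le_mul (show 1 ≤ e - 1 by omega) h6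
      rw [card_insert_of_notMem hms, card_insert_of_notMem hbs, hc1]
      omega

end Cfsg.Agent.H636.LIN
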