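import Cfsg.Agent.H636.LIN.LinW
import Cfsg.Agent.H754.XZ.BlkOrb
import Cfsg.Agent.H674.XZ.BlkOneB

/-!
# `LinData` for the Witt models: the block elements (helper636, for S4791 / S4927)
-/

set_option autoImplicit false
set_option linter.unusedSectionVars false

namespace Cfsg.Agent.H636.LIN

open Cfsg.Agent.ChevalleyStructure.CoxeterGeom Cfsg.Agent.Tits.Roots Cfsg.Agent.Nodes.TypeC
open Cfsg.Agent.Nodes Cfsg.Agent.Nodes.Comb Cfsg.Agent.Nodes.Reps Cfsg.Agent.Nodes.WittRoot Cfsg.Agent.Nodes.BNOf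
open Cfsg.Agent.Nodes.WittRGD Cfsg.Agent.Nodes.RGDLib Cfsg.Agent.Nodes.WittAll Cfsg.Agent.Nodes.StabComb
open Cfsg.Agent.Nodes.Bruhat Cfsg.Agent.Nodes.OppDec Cfsg.Agent.Nodes.LeviDec
open Cfsg.Agent.TitsThree Cfsg.Agent.TitsThree.Siegel Cfsg.Agent.TitsThree.WittFrame
  Cfsg.Agent.TitsThree.WittWeyl Cfsg.Agent.TitsThree.FrameCN
open Cfsg.Agent.H769.OZ Cfsg.Agent.H796.XZ Cfsg.Agent.H967.XZ Cfsg.Agent.H754.XZ

variable {F : Type*} [Field F] {V : Type*} [AddCommGroup V] [Module F V] {H : HForm F V} {m : ℕ}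
  {Fr : Frame H (Fin m)}

/-- **the block elements, `e ≥ 2`** -/
theorem exists_blkEl_two [Finite V] [Fintype F] {r : ℕ} {G0 : Subgroup (V ≃ₗ[F] V)} (hA : AmbT Fr r G0) {p : ℕ} [Fact p.Prime]
    {e : ℕ} (he : e = orderOf (Fintype.card F : ZMod p)) (he2 : 2 ≤ e) {w i : ℕ} (hw : e * w ≤ m) (hi : i < w) :
    ∃ y : G0, BlkEl Fr p e i y.1 := by
  have h0 : e * (i + 1) ≤ e * w := Nat.mul_le_mul_left e hi
  have h1 : e * (i + 1) = e * i + e := Nat.mul_succ e i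
  have h2 : p ∣ Nat.card F ^ (e * (i + 1) - e * i) - 1 := by
    have h3 : e * (i + 1) - e * i = e := by omega
    have h4 : 0 < Nat.card F ^ e := Nat.pow_pos Nat.card_pos
    rw [h3, ← ZMod.natCast_eq_zero_iff, Nat.cast_sub h4, Nat.card_eq_fintype_card, Nat.cast_pow, he, pow_orderOf_eq_one,
      Nat.cast_one, sub_self]
  obtain ⟨y, hy, h3, h4⟩ := exists_order (Fr := Fr) (p := p) (lo := e * i) (hi := e * (i + 1)) (by omega) (by omega) h2
  have h5 : y ∈ G0 := by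
    refine (Subgroup.closure_le _).2 ?_ hy
    rintro _ ⟨a, b, -, -, -, -, -, t, rfl⟩
    exact hA.X_mem _ _ _
  refine ⟨⟨y, h5⟩, BlkEl.of hA h3 h4 (fun s v hv => ?_) (fun k s hk => GA_fix_b hy k s hk) fun v hv => GA_fix_V0 hy hv⟩
  exact (GA_StE hy s v).2 hv

variable {Y : Type*} [Group Y] (M : Model Fr Y)
  {W : Type*} [Group W] (cs : CoxeterSystem (CoxeterMatrix.B m) W) {r : ℕ} [Finite V] [Fact r.Prime] [CharP F r]
  (hA : AmbT Fr r M.I) {p0 : Fr.Adm} (hp0 : p0.c ≠ 0)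

include hA in
/-- **the block elements** -/
theorem exists_blkEl [Fintype F] {p : ℕ} [Fact p.Prime] {e : ℕ} (he : e = orderOf (Fintype.card F : ZMod p)) (he0 : 0 < e) {t : ℕ}
    (hσ : ∀ a, H.σ a = a ^ (r ^ t)) (hlin : ∀ j, ¬ p ∣ Fintype.card F ^ j + r ^ t) {w i : ℕ} (hm2 : 2 ≤ m) (hw : e * w ≤ m)
    (hi : i < w) : ∃ y : M.I, BlkEl Fr p e i y.1 := by
  rcases Nat.lt_or_ge 1 e with h1 | h1
  · exact exists_blkEl_two hA he h1 hw hi
  · have h2 : e = 1 := by omega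
    subst h2
    have h3 := hlin 0
    rw [pow_zero] at h3
    exact Cfsg.Agent.H674.XZ.Blk.exists_blkEl_one M hA he.symm hσ h3 hm2 (by omega)

include hA hp0 in
/-- **`LinData` for every Witt model** -/
theorem linData_model_of' [Finite Y] [Fintype F] (hG : GG cs (isCartan m) (WittModel.T M) (WittModel.X M) = ⊤) {p e v w y z : ℕ}
    [Fact p.Prime] (hp2 : p ≠ 2) (hpr : p ≠ r) (hm2 : 2 ≤ m)
    (he : e = orderOf (Fintype.card F : ZMod p)) (hpF : ¬ p ∣ Fintype.card F) {t : ℕ}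
    (hσ : ∀ a, H.σ a = a ^ (r ^ t)) (hlin : ∀ j, ¬ p ∣ Fintype.card F ^ j + r ^ t)
    (hy : ∀ i : Fin m, (i : ℕ) + 1 < m → Nat.card (WittModel.X M (sr i)) = y)
    (hz : ∀ i : Fin m, (i : ℕ) + 1 = m → Nat.card (WittModel.X M (sr i)) = z) (hyF : y = Fintype.card F)
    (hm : v + e * w = m) (hv : v < e) (hw : 0 < w) (hlin' : ∀ i < m, ¬ p ∣ 1 + y ^ i * z)
    (hT : 1 < e → ¬ p ∣ Nat.card ↥(WittModel.T M)) :
    ∃ (P : Sylow p Y) (P₀ : Subgroup Y),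
      LinData cs (isCartan m) (WittModel.T M) (WittModel.X M) p (JA m e w) (JT m e w) P P₀ :=
  linData_model_of M cs hA hp0 hG hp2 hpr he hpF hσ hlin hy hz hyF hm hv hw hlin' hT fun _ hi =>
    exists_blkEl M hA he (by omega) hσ hlin hm2 (by omega) hi

end Cfsg.Agent.H636.LIN
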