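import Cfsg.Agent.H636.LIN.LinB
import Cfsg.Agent.H965.XZ.D3A
import Cfsg.Agent.H886.XZ.LTE

/-!
# `LinData`, type `B_m`, all `w` and `e` (helper636, for S4791 / S4927, (D3) and (D3'))

`exists_linData_B` : `LinData` for every linear prime of a root group datum of type `B_m`, from the centralizer of `P₀`
(`hcen`, helper967's `cen_of`) and `p ∤ |T|` for `e > 1`.
-/

set_option autoImplicit false
set_option linter.unusedSectionVars false

namespace Cfsg.Agent.H636.LIN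

open Cfsg CoxeterSystem Cfsg.Agent.ChevalleyStructure.CoxeterGeom Cfsg.Agent.Tits.Roots Cfsg.Agent.Tits.Core
  Cfsg.Agent.Tits.Exchange Cfsg.Agent.Nodes.Reps Cfsg.Agent.Nodes.BNOf Cfsg.Agent.Nodes.StabComb
  Cfsg.Agent.Nodes.Bruhat Cfsg.Agent.Nodes.OppDec Cfsg.Agent.Nodes.LeviDec Cfsg.Agent.H53.HC Cfsg.Agent.H796.XZ
  Cfsg.Agent.H965.XZ

variable {m : ℕ} {W Y : Type*} [Group W] [Finite W] [Group Y] [Finite Y] {cs : CoxeterSystem (CoxeterMatrix.B m) W}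
  {A : Fin m → Fin m → ℤ} {h : IsCartan (CoxeterMatrix.B m) A} {r : ℕ} {T : Subgroup Y} {n : Fin m → Y}
  {X : (Fin m → ℤ) → Subgroup Y} (R : RGD cs h r T n X) {p : ℕ} [hp : Fact p.Prime] [hr : Fact r.Prime]

include R

theorem dvd_relIndex {y e w : ℕ} (hy : ∀ i : Fin m, (i : ℕ) + 1 < m → Nat.card (X (sr i)) = y) (he : 1 < e)
    (ho : orderOf (y : ZMod p) = e) (hw : e * w ≤ m) {K : Set (Fin m)} (hK : K ⊆ JA m e w) (hne : K ≠ JA m e w) :
    p ∣ (PJ cs h T X K).relIndex (PJ cs h T X (JA m e w)) := by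
  obtain ⟨j, hj, hjK⟩ : ∃ j ∈ JA m e w, j ∉ K := by
    by_contra hcon
    push Not at hcon
    exact hne (Set.Subset.antisymm hK hcon)
  obtain ⟨b, c, hb0, hb, hc0, hc, -, hcard⟩ := card_JA_sub (h := h) R hy (e := e) (w := w) (by omega) hw (j := j) hj.1 hj.2
  have h0 : {k : Fin m | (k : ℕ) + 1 < e * w ∧ ¬ e ∣ (k : ℕ) + 1} = JA m e w := rfl
  rw [h0] at hcard
  have hKj : PJ cs h T X K ≤ PJ cs h T X (JA m e w \ {j}) :=
    Cfsg.Agent.H554.RG.PJ_mono R fun k hk => ⟨hK hk, fun h1 => hjK (by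
      rw [← Set.mem_singleton_iff.1 h1]; exact hk)⟩
  have hle : PJ cs h T X (JA m e w \ {j}) ≤ PJ cs h T X (JA m e w) := Cfsg.Agent.H554.RG.PJ_mono R Set.sdiff_subset
  refine Dvd.dvd.trans ?_ (Subgroup.relIndex_dvd_of_le_left _ hKj)
  have h3 := (((PJ cs h T X (JA m e w \ {j})).subgroupOf (PJ cs h T X (JA m e w))).card_mul_index)
  rw [Nat.card_congr (Subgroup.subgroupOfEquivOfLe hle).toEquiv] at h3
  change _ * (PJ cs h T X (JA m e w \ {j})).relIndex (PJ cs h T X (JA m e w)) = _ at h3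
  rw [← h3] at hcard
  have h4 : (PJ cs h T X (JA m e w \ {j})).relIndex (PJ cs h T X (JA m e w)) * (fac y b * fac y c) = fac y e := by
    refine Nat.eq_of_mul_eq_mul_left (Nat.card_pos (α := ↥(PJ cs h T X (JA m e w \ {j})))) ?_
    rw [← mul_assoc, hcard, mul_comm]
  have h5 : p ∣ fac y e := by
    obtain ⟨k, rfl⟩ : ∃ k, e = k + 1 := ⟨e - 1, by omega⟩
    rw [fac_succ]
    exact Dvd.dvd.mul_left (dvd_gs_e ho he) _
  rw [← h4] at h5
  rcases (hp.out.dvd_mul).1 h5 with h6 | h6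
  · exact h6
  · rcases (hp.out.dvd_mul).1 h6 with h7 | h7
    · exact absurd h7 (not_dvd_fac ho hb)
    · exact absurd h7 (not_dvd_fac ho hc)

omit R hr in
/-- the linear primes: the numbers `1 + y ^ i z`, `i < m`, are enough -/
theorem lin_all {y z e m : ℕ} (ho : orderOf (y : ZMod p) = e) (he : 0 < e) (hem : e ≤ m) (hlin : ∀ i < m, ¬ p ∣ 1 + y ^ i * z)
    (i : ℕ) : ¬ p ∣ 1 + y ^ i * z := by
  have h1 := hlin (i % e) (lt_of_lt_of_le (Nat.mod_lt i he) hem)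
  rw [← ZMod.natCast_eq_zero_iff] at h1 ⊢
  push_cast at h1 ⊢
  have h2 : (y : ZMod p) ^ i = (y : ZMod p) ^ (i % e) := by
    conv_lhs => rw [← Nat.div_add_mod i e, pow_add, pow_mul, ← ho, pow_orderOf_eq_one, one_pow, one_mul]
    rw [ho]
  rwa [h2]

/-- **`LinData`, type `B_m`** -/
theorem exists_linData_B (hG : GG cs h T X = ⊤) (hp2 : p ≠ 2) (hpr : p ≠ r) {y z v e w : ℕ}
    (hy : ∀ i : Fin m, (i : ℕ) + 1 < m → Nat.card (X (sr i)) = y)
    (hz : ∀ i : Fin m, (i : ℕ) + 1 = m → Nat.card (X (sr i)) = z) (hy1 : 1 < y) (he : 0 < e)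
    (ho : orderOf (y : ZMod p) = e) (hm : v + e * w = m) (hv : v < e) (hw : 0 < w) (hlin : ∀ i < m, ¬ p ∣ 1 + y ^ i * z)
    (hT : 1 < e → ¬ p ∣ Nat.card ↥T)
    (hcen : ∀ P₀ : Subgroup Y, IsPGroup p ↥P₀ → P₀ ≤ LJ cs h T X (JA m e w) → ¬ p ∣ P₀.relIndex (LJ cs h T X (JA m e w)) →
      Subgroup.centralizer (P₀ : Set Y) ≤ LJ cs h T X (JA m e w ∪ JT m e w)) :
    ∃ (P : Sylow p Y) (P₀ : Subgroup Y), LinData cs h T X p (JA m e w) (JT m e w) P P₀ := by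
  have hem : e ≤ m := by
    have h1 : e * 1 ≤ e * w := Nat.mul_le_mul_left e hw
    omega
  have hlin' := lin_all ho he hem hlin
  refine exists_linData_B_of R hG hpr hy hz (by omega) he hv hm hT (fun i hi => ?_) hlin'
    (Cfsg.Agent.H886.XZ.fac_prod hp2 hy1 hm hv he ho.symm hlin') (card_JA R hy he w (by omega))
    (fun he1 K hK hne => dvd_relIndex R hy he1 ho (by omega) hK hne) hcen
  refine Cfsg.Agent.H965.XZ.not_dvd_gs ho fun h1 => ?_
  have := Nat.le_of_dvd (Nat.succ_pos i) h1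
  omega

end Cfsg.Agent.H636.LIN
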