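import Cfsg.Agent.H236.XZ.Cells
import Cfsg.Agent.H796.XZ.LinDefs

/-!
# Block permutations in `W(B_m)` (helper636, for S4791 / S4927, (D3'))

`e w ≤ m`: `w` blocks of size `e` in `{0, …, m - 1}`.

* `bp hm π` : the permutation `(b, i) ↦ (π b, i)` of the coordinates;
* `phi cs hm : Equiv.Perm (Fin w) →* W`;
* `phi_mem_WJ` : the image lies in the standard parabolic subgroup of the nodes `k + 1 < e w`;
* `eq_one_of_phi_mem` : it meets the parabolic subgroup of `JA m e w` only in `1`;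
* `phi_conj` : `φ π s_j (φ π)⁻¹` is a simple reflection of `JA m e w`, for `j` in `JA m e w`.
-/

set_option autoImplicit false
set_option linter.unusedSectionVars false

namespace Cfsg.Agent.H636.LIN

open Cfsg CoxeterSystem Cfsg.Agent.ChevalleyStructure.CoxeterGeom Cfsg.Agent.Tits.Roots Cfsg.Agent.Tits.Core
  Cfsg.Agent.H215.WB Cfsg.Agent.H236.XZ Cfsg.Agent.Nodes.StabComb Cfsg.Agent.Nodes.TypeC
open Cfsg.Agent.H796.XZ (JA JT)

section perm

variable {m e w : ℕ}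

/-- the block permutation -/
def bpf (hm : e * w ≤ m) (π : Equiv.Perm (Fin w)) (i : Fin m) : Fin m :=
  if h : (i : ℕ) < e * w then ⟨e * (π ⟨i / e, Nat.div_lt_of_lt_mul h⟩ : ℕ) + i % e, by
    have he : 0 < e := Nat.pos_of_ne_zero (by rintro rfl; omega)
    have h1 := (π ⟨i / e, Nat.div_lt_of_lt_mul h⟩).2
    have h2 := Nat.mod_lt (i : ℕ) he
    have h3 := Nat.mul_le_mul_left e h1
    rw [Nat.mul_succ] at h3
    omega⟩
  else i

theorem bpf_of_lt (hm : e * w ≤ m) (π : Equiv.Perm (Fin w)) {i : Fin m} (h : (i : ℕ) < e * w) :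
    (bpf hm π i : ℕ) = e * (π ⟨i / e, Nat.div_lt_of_lt_mul h⟩ : ℕ) + i % e := by
  unfold bpf
  rw [dif_pos h]

theorem bpf_of_ge (hm : e * w ≤ m) (π : Equiv.Perm (Fin w)) {i : Fin m} (h : e * w ≤ (i : ℕ)) : bpf hm π i = i := by
  unfold bpf
  rw [dif_neg (by omega)]

theorem bpf_lt (hm : e * w ≤ m) (π : Equiv.Perm (Fin w)) {i : Fin m} (h : (i : ℕ) < e * w) :
    (bpf hm π i : ℕ) < e * w := by
  have he : 0 < e := Nat.pos_of_ne_zero (by rintro rfl; omega)
  rw [bpf_of_lt hm π h]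
  have h1 := (π ⟨i / e, Nat.div_lt_of_lt_mul h⟩).2
  have h2 := Nat.mod_lt (i : ℕ) he
  have h3 := Nat.mul_le_mul_left e h1
  rw [Nat.mul_succ] at h3
  omega

theorem bpf_div (hm : e * w ≤ m) (π : Equiv.Perm (Fin w)) {i : Fin m} (h : (i : ℕ) < e * w) :
    (bpf hm π i : ℕ) / e = π ⟨i / e, Nat.div_lt_of_lt_mul h⟩ := by
  have he : 0 < e := Nat.pos_of_ne_zero (by rintro rfl; omega)
  rw [bpf_of_lt hm π h, Nat.mul_add_div he, Nat.div_eq_of_lt (Nat.mod_lt _ he), add_zero]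

theorem bpf_mod (hm : e * w ≤ m) (π : Equiv.Perm (Fin w)) {i : Fin m} (h : (i : ℕ) < e * w) :
    (bpf hm π i : ℕ) % e = i % e := by
  rw [bpf_of_lt hm π h, Nat.mul_add_mod, Nat.mod_mod]

theorem bpf_mul (hm : e * w ≤ m) (π ρ : Equiv.Perm (Fin w)) (i : Fin m) : bpf hm (π * ρ) i = bpf hm π (bpf hm ρ i) := by
  rcases lt_or_ge (i : ℕ) (e * w) with h | h
  · apply Fin.ext
    rw [bpf_of_lt hm (π * ρ) h, bpf_of_lt hm π (bpf_lt hm ρ h), bpf_mod hm ρ h]
    congr 3
    rw [Equiv.Perm.mul_apply]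
    congr 1
    exact Fin.ext (bpf_div hm ρ h).symm
  · rw [bpf_of_ge hm _ h, bpf_of_ge hm ρ h, bpf_of_ge hm π h]

theorem bpf_one (hm : e * w ≤ m) (i : Fin m) : bpf hm 1 i = i := by
  rcases lt_or_ge (i : ℕ) (e * w) with h | h
  · apply Fin.ext
    rw [bpf_of_lt hm 1 h]
    exact Nat.div_add_mod _ _
  · exact bpf_of_ge hm 1 h

/-- the block permutation -/
def bp (hm : e * w ≤ m) (π : Equiv.Perm (Fin w)) : Equiv.Perm (Fin m) where
  toFun := bpf hm π
  invFun := bpf hm π⁻¹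
  left_inv i := by rw [← bpf_mul, inv_mul_cancel, bpf_one]
  right_inv i := by rw [← bpf_mul, mul_inv_cancel, bpf_one]

theorem bp_apply (hm : e * w ≤ m) (π : Equiv.Perm (Fin w)) (i : Fin m) : bp hm π i = bpf hm π i := rfl

/-- consecutive coordinates of the same block -/
theorem bpf_succ (hm : e * w ≤ m) (π : Equiv.Perm (Fin w)) {j k : Fin m} (hjk : (k : ℕ) = j + 1) (hk : (k : ℕ) < e * w)
    (hd : ¬ e ∣ (k : ℕ)) : (bpf hm π k : ℕ) = bpf hm π j + 1 := by
  have he : 0 < e := Nat.pos_of_ne_zero (by rintro rfl; omega)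
  have hj : (j : ℕ) < e * w := by omega
  have h1 : (k : ℕ) / e = (j : ℕ) / e := by
    rw [hjk, Nat.succ_div, if_neg (by rw [← hjk]; exact hd), add_zero]
  have h2 : (k : ℕ) % e = (j : ℕ) % e + 1 := by
    have h3 := Nat.div_add_mod (k : ℕ) e
    have h4 := Nat.div_add_mod (j : ℕ) e
    rw [h1] at h3
    omega
  rw [bpf_of_lt hm π hk, bpf_of_lt hm π hj, h2]
  have h5 : (⟨(k : ℕ) / e, Nat.div_lt_of_lt_mul hk⟩ : Fin w) = ⟨(j : ℕ) / e, Nat.div_lt_of_lt_mul hj⟩ := Fin.ext h1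
  rw [h5]
  omega

theorem bpf_mem_JA (hm : e * w ≤ m) (π : Equiv.Perm (Fin w)) {j : Fin m} (hj : j ∈ JA m e w) : bpf hm π j ∈ JA m e w := by
  obtain ⟨h1, h2⟩ := hj
  have he : 0 < e := Nat.pos_of_ne_zero (by rintro rfl; omega)
  have hk : (j : ℕ) + 1 < m := by omega
  have h3 := bpf_succ hm π (j := j) (k := ⟨j + 1, hk⟩) rfl h1 h2
  have h4 := bpf_lt hm π (i := ⟨j + 1, hk⟩) h1
  refine ⟨by omega, ?_⟩
  rw [← h3]
  intro h5
  apply h2
  have h6 := bpf_mod hm π (i := ⟨j + 1, hk⟩) h1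
  rw [Nat.mod_eq_zero_of_dvd h5] at h6
  exact Nat.dvd_of_mod_eq_zero h6.symm

end perm

section W

variable {m e w : ℕ} {W : Type*} [Group W] (cs : CoxeterSystem (CoxeterMatrix.B m) W)

theorem ext_W {u v : W} (h1 : ta cs u = ta cs v) (h2 : de cs u = de cs v) : u = v := by
  have h3 := (yv_eq_iff cs (T := Set.univ) (w := u) (w' := v)).1 fun t _ i => by
    unfold yv
    rw [h1, h2]
  rw [Set.compl_univ, Set.image_empty, Subgroup.closure_empty, Subgroup.mem_bot] at h3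
  exact (inv_mul_eq_one.1 h3)

/-- the block permutation in `W` -/
noncomputable def phf (hm : e * w ≤ m) (π : Equiv.Perm (Fin w)) : W :=
  (exists_of_perm cs (bp hm π⁻¹) fun _ => true).choose

theorem ta_phf (hm : e * w ≤ m) (π : Equiv.Perm (Fin w)) (i : Fin m) : ta cs (phf cs hm π) i = bpf hm π⁻¹ i := by
  rw [phf, (exists_of_perm cs (bp hm π⁻¹) fun _ => true).choose_spec.1]
  rfl

theorem de_phf (hm : e * w ≤ m) (π : Equiv.Perm (Fin w)) (i : Fin m) : de cs (phf cs hm π) i = true := by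
  rw [phf, (exists_of_perm cs (bp hm π⁻¹) fun _ => true).choose_spec.2]

/-- **the block permutations** -/
noncomputable def phi (hm : e * w ≤ m) : Equiv.Perm (Fin w) →* W :=
  MonoidHom.mk' (phf cs hm) fun π ρ => by
    refine ext_W cs (funext fun i => ?_) (funext fun i => ?_)
    · rw [ta_mul, ta_phf, ta_phf, ta_phf, mul_inv_rev, bpf_mul]
    · rw [de_mul, de_phf, de_phf, de_phf]
      rfl

theorem ta_phi (hm : e * w ≤ m) (π : Equiv.Perm (Fin w)) (i : Fin m) : ta cs (phi cs hm π) i = bpf hm π⁻¹ i := ta_phf cs hm π i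

theorem de_phi (hm : e * w ≤ m) (π : Equiv.Perm (Fin w)) (i : Fin m) : de cs (phi cs hm π) i = true := de_phf cs hm π i

/-- the image lies in the parabolic subgroup of type `A_{e w - 1}` -/
theorem phi_mem_WJ (hm : e * w ≤ m) (π : Equiv.Perm (Fin w)) : phi cs hm π ∈ WJ cs {k : Fin m | (k : ℕ) + 1 < e * w} := by
  have h1 : phi cs hm π ∈ stb cs {k : Fin m | (k : ℕ) + 1 < e * w}ᶜ := by
    intro t ht i
    have ht' : ¬ (t : ℕ) + 1 < e * w := ht
    rw [yv_one, yv, ta_phi, de_phi]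
    congr 1
    rw [Fin.le_def, Fin.le_def]
    rcases lt_or_ge (i : ℕ) (e * w) with h | h
    · have := bpf_lt hm π⁻¹ h
      exact propext ⟨fun _ => by omega, fun _ => by omega⟩
    · rw [bpf_of_ge hm π⁻¹ h]
  rw [stb_eq, compl_compl] at h1
  exact h1

/-- the image meets the parabolic subgroup of the blocks only in `1` -/
theorem eq_one_of_phi_mem (hm : e * w ≤ m) (he : 0 < e) {π : Equiv.Perm (Fin w)} (h : phi cs hm π ∈ WJ cs (JA m e w)) :
    π = 1 := by
  have h0 : phi cs hm π ∈ Subgroup.closure (cs.simple '' JJ (blE e w : Fin m → Option (Fin w))) := by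
    refine Subgroup.closure_mono (Set.image_mono ?_) h
    rw [JJ_blE hm]
    exact fun k hk => Or.inr hk.2
  have h1 : ∀ b : Fin w, π⁻¹ b = b := by
    intro b
    have hb : e * (b : ℕ) < e * w := Nat.mul_lt_mul_of_pos_left b.2 he
    have h2 := (bl_ta cs (blk_blE he hm) h0 ⟨e * b, by omega⟩).1
    rw [ta_phi] at h2
    have h3 : blE e w (⟨e * b, by omega⟩ : Fin m) = some b := blE_some.2 ⟨hb, Nat.mul_div_cancel_left _ he⟩
    rw [h3] at h2
    have h4 := (blE_some.1 h2).2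
    rw [bpf_div hm π⁻¹ (i := ⟨e * b, by omega⟩) hb] at h4
    have h5 : (⟨(e * (b : ℕ)) / e, Nat.div_lt_of_lt_mul hb⟩ : Fin w) = b := Fin.ext (Nat.mul_div_cancel_left _ he)
    have h6 := Fin.ext h4
    rwa [h5] at h6
  rw [← inv_inv π]
  rw [inv_eq_one]
  exact Equiv.ext h1

theorem ta_simple {k : Fin m} (hk : (k : ℕ) + 1 < m) (i : Fin m) : ta cs (cs.simple k) i = Equiv.swap k ⟨k + 1, hk⟩ i := by
  have h1 : sp cs (cs.simple k)⁻¹ (i, true) = sg k (i, true) := by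
    rw [cs.inv_simple, sp_simple]
  have h2 : ta cs (cs.simple k) i = (sg k (i, true)).1 := congrArg Prod.fst h1
  rw [h2, Equiv.swap_apply_def]
  unfold sg
  rw [dif_pos hk]
  dsimp only
  split_ifs <;> rfl

theorem de_simple {k : Fin m} (hk : (k : ℕ) + 1 < m) (i : Fin m) : de cs (cs.simple k) i = true := by
  have h1 : sp cs (cs.simple k)⁻¹ (i, true) = sg k (i, true) := by
    rw [cs.inv_simple, sp_simple]
  have h2 : de cs (cs.simple k) i = (sg k (i, true)).2 := congrArg Prod.snd h1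
  rw [h2]
  unfold sg
  rw [dif_pos hk]
  dsimp only
  split_ifs <;> rfl

/-- **the conjugates of the simple reflections of the blocks** -/
theorem phi_conj (hm : e * w ≤ m) (π : Equiv.Perm (Fin w)) {j : Fin m} (hj : j ∈ JA m e w) :
    phi cs hm π * cs.simple j = cs.simple (bpf hm π j) * phi cs hm π := by
  have hj1 : (j : ℕ) + 1 < m := by have := hj.1; omega
  have hk := bpf_mem_JA hm π hj
  have hk1 : (bpf hm π j : ℕ) + 1 < m := by have := hk.1; omega
  refine ext_W cs (funext fun i => ?_) (funext fun i => ?_)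
  · rw [ta_mul, ta_mul, ta_phi, ta_phi, ta_simple cs hj1, ta_simple cs hk1]
    have h1 : (⟨(bpf hm π j : ℕ) + 1, hk1⟩ : Fin m) = bpf hm π ⟨j + 1, hj1⟩ :=
      Fin.ext (bpf_succ hm π (j := j) (k := ⟨j + 1, hj1⟩) rfl hj.1 hj.2).symm
    rw [h1]
    change (Equiv.swap j ⟨j + 1, hj1⟩) ((bp hm π).symm i) = (bp hm π).symm (Equiv.swap (bp hm π j) (bp hm π ⟨j + 1, hj1⟩) i)
    rw [Equiv.eq_symm_apply]
    have h2 := Equiv.swap_apply_apply (bp hm π) j ⟨j + 1, hj1⟩
    rw [h2]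
    rfl
  · rw [de_mul, de_mul, de_phi, de_phi, de_simple cs hj1, de_simple cs hk1]

variable {A : Fin m → Fin m → ℤ} (h : IsCartan (CoxeterMatrix.B m) A)

/-- the root `φ π α_j` is a multiple of `α_k`, `k = bp π j`. -/
theorem rep_phi (hm : e * w ≤ m) (π : Equiv.Perm (Fin w)) {j : Fin m} (hj : j ∈ JA m e w) {t : Fin m} (ht : t ≠ bpf hm π j) :
    rep cs h (phi cs hm π) (sr j) t = 0 := by
  have h1 : rep cs h (phi cs hm π * cs.simple j) (sr j) t = rep cs h (cs.simple (bpf hm π j) * phi cs hm π) (sr j) t := by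
    rw [phi_conj cs hm π hj]
  rw [rep_mul_apply, rep_mul_apply, rep_simple_sr, map_neg, rep_simple_apply cs h _ _ _ ht, Pi.neg_apply] at h1
  omega

/-- `φ π` preserves the roots of the blocks -/
theorem phi_act [Finite W] (hm : e * w ≤ m) (π : Equiv.Perm (Fin w)) {x : Fin m → ℤ} (hx : x ∈ RootsJ cs h (JA m e w)) :
    rep cs h (phi cs hm π) x ∈ RootsJ cs h (JA m e w) := by
  refine ⟨hx.1.act _, fun k hk => ?_⟩
  have h1 : x = ∑ j, x j • (sr j : Fin m → ℤ) := by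
    funext i
    rw [Finset.sum_apply, Finset.sum_eq_single i]
    · simp [sr]
    · intro j _ hj
      simp [sr, Ne.symm hj]
    · simp
  rw [h1, map_sum, Finset.sum_apply]
  refine Finset.sum_eq_zero fun j _ => ?_
  rw [map_smul, Pi.smul_apply, smul_eq_mul]
  by_cases hj : j ∈ JA m e w
  · rw [rep_phi cs h hm π hj, mul_zero]
    rintro rfl
    exact hk (bpf_mem_JA hm π hj)
  · rw [hx.2 j hj, zero_mul]

end W

end Cfsg.Agent.H636.LIN
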