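import Mathlib

/-!
# Alternating sums over chains (helper636, for S4791 / S4927)

* `Ech s` : the sum of `(-1) ^ |c|` over all chains `c ⊆ s`;
* `Ech_eq` : `Ech s = 1 - ∑ x ∈ s, Ech (above x)` for an upper set `s`;
-/

set_option autoImplicit false
set_option linter.unusedSectionVars false

namespace Cfsg.Agent.H636.LIN

open Finset

variable {α : Type*} [Fintype α] [DecidableEq α] [PartialOrder α] [DecidableLE α] [DecidableLT α]

/-- the chains in `s` -/
def chs (s : Finset α) : Finset (Finset α) := s.powerset.filter fun c => ∀ x ∈ c, ∀ y ∈ c, x ≤ y ∨ y ≤ x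

theorem mem_chs {s c : Finset α} : c ∈ chs s ↔ c ⊆ s ∧ ∀ x ∈ c, ∀ y ∈ c, x ≤ y ∨ y ≤ x := by
  unfold chs
  rw [mem_filter, mem_powerset]

/-- the alternating number of chains -/
def Ech (s : Finset α) : ℤ := ∑ c ∈ chs s, (-1) ^ c.card

theorem exists_min {c : Finset α} (hc : ∀ x ∈ c, ∀ y ∈ c, x ≤ y ∨ y ≤ x) (hne : c.Nonempty) : ∃ x ∈ c, ∀ y ∈ c, x ≤ y := by
  obtain ⟨x, hx, hmin⟩ := c.exists_minimal hne
  refine ⟨x, hx, fun y hy => ?_⟩
  rcases hc x hx y hy with h | h
  · exact h
  · exact hmin hy h

/-- chains are sorted by their smallest element -/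
theorem Ech_eq (s : Finset α) (hs : ∀ x ∈ s, ∀ y, x < y → y ∈ s) :
    Ech s = 1 - ∑ x ∈ s, Ech (univ.filter fun y => x < y) := by
  have h1 : chs s = insert ∅ (s.biUnion fun x => (chs (univ.filter fun y => x < y)).image (insert x)) := by
    ext c
    rw [mem_insert, mem_biUnion]
    constructor
    · intro hc
      rw [mem_chs] at hc
      rcases c.eq_empty_or_nonempty with h | h
      · exact Or.inl h
      · right
        obtain ⟨x, hx, hmin⟩ := exists_min hc.2 h
        refine ⟨x, hc.1 hx, ?_⟩
        rw [mem_image]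
        refine ⟨c.erase x, ?_, insert_erase hx⟩
        rw [mem_chs]
        refine ⟨fun y hy => ?_, fun y hy z hz => hc.2 y (mem_of_mem_erase hy) z (mem_of_mem_erase hz)⟩
        rw [mem_filter]
        exact ⟨mem_univ _, lt_of_le_of_ne (hmin y (mem_of_mem_erase hy)) (ne_of_mem_erase hy).symm⟩
    · rintro (rfl | ⟨x, hx, hc⟩)
      · rw [mem_chs]
        exact ⟨empty_subset _, fun y hy => absurd hy (notMem_empty _)⟩
      · obtain ⟨c', hc', rfl⟩ := mem_image.1 hc
        rw [mem_chs] at hc' ⊢
        constructor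
        · intro y hy
          rcases mem_insert.1 hy with rfl | hy
          · exact hx
          · exact hs x hx y (mem_filter.1 (hc'.1 hy)).2
        · intro y hy z hz
          rcases mem_insert.1 hy with h1 | h1 <;> rcases mem_insert.1 hz with h2 | h2
          · exact Or.inl (h1.trans h2.symm).le
          · rw [h1]
            exact Or.inl (mem_filter.1 (hc'.1 h2)).2.le
          · rw [h2]
            exact Or.inr (mem_filter.1 (hc'.1 h1)).2.le
          · exact hc'.2 y h1 z h2
  have hno : ∀ x, ∀ c ∈ chs (univ.filter fun y : α => x < y), x ∉ c := by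
    intro x c hc hx
    exact lt_irrefl x (mem_filter.1 ((mem_chs.1 hc).1 hx)).2
  unfold Ech
  rw [h1, sum_insert, card_empty, pow_zero, sum_biUnion, sub_eq_add_neg, ← sum_neg_distrib]
  · congr 1
    refine sum_congr rfl fun x _ => ?_
    rw [sum_image, ← sum_neg_distrib]
    · refine sum_congr rfl fun c hc => ?_
      rw [card_insert_of_notMem (hno x c hc), pow_succ]
      ring
    · intro c hc c' hc' e
      rw [← erase_insert (hno x c hc), ← erase_insert (hno x c' hc')]
      exact congrArg (fun c => c.erase x) e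
  · intro x _ y _ hxy
    rw [Function.onFun, disjoint_left]
    intro c hc hc'
    obtain ⟨d, hd, rfl⟩ := mem_image.1 hc
    obtain ⟨d', hd', e⟩ := mem_image.1 hc'
    have h2 : x ∈ insert y d' := by rw [e]; exact mem_insert_self _ _
    have h3 : y ∈ insert x d := by rw [← e]; exact mem_insert_self _ _
    rcases mem_insert.1 h2 with h4 | h4
    · exact hxy h4
    · rcases mem_insert.1 h3 with h5 | h5
      · exact hxy h5.symm
      · exact lt_asymm (mem_filter.1 ((mem_chs.1 hd').1 h4)).2 (mem_filter.1 ((mem_chs.1 hd).1 h5)).2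
  · rw [mem_biUnion]
    rintro ⟨x, _, hx⟩
    obtain ⟨d, _, e⟩ := mem_image.1 hx
    exact insert_ne_empty _ _ e

/-- if `e` satisfies the recursion then it is the alternating number of chains above `x` -/
theorem Ech_above (e : α → ℤ) (he : ∀ x, ∑ y ∈ univ.filter (fun y => x ≤ y), e y = 1) (x : α) :
    Ech (univ.filter fun y => x < y) = e x := by
  have hwf : WellFounded (fun x y : α => y < x) := (Finite.wellFounded_of_trans_of_irrefl (fun x y : α => y < x))
  refine hwf.induction (C := fun x => Ech (univ.filter fun y => x < y) = e x) x ?_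
  intro x ih
  have h1 := Ech_eq (univ.filter fun y => x < y) (by
    intro y hy z hz
    rw [mem_filter] at hy ⊢
    exact ⟨mem_univ _, hy.2.trans hz⟩)
  rw [h1, sum_congr rfl fun y hy => ih y (mem_filter.1 hy).2]
  have h2 := he x
  have h3 : (univ.filter fun y => x ≤ y) = insert x (univ.filter fun y => x < y) := by
    ext y
    rw [mem_insert, mem_filter, mem_filter]
    constructor
    · rintro ⟨-, h⟩
      rcases h.eq_or_lt with h | h
      · exact Or.inl h.symm
      · exact Or.inr ⟨mem_univ _, h⟩
    · rintro (rfl | ⟨-, h⟩)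
      · exact ⟨mem_univ _, le_rfl⟩
      · exact ⟨mem_univ _, h.le⟩
  rw [h3, sum_insert (by rw [mem_filter]; exact fun h => lt_irrefl _ h.2)] at h2
  linarith

theorem Ech_upper (e : α → ℤ) (he : ∀ x, ∑ y ∈ univ.filter (fun y => x ≤ y), e y = 1) (s : Finset α)
    (hs : ∀ x ∈ s, ∀ y, x < y → y ∈ s) : Ech s = 1 - ∑ x ∈ s, e x := by
  rw [Ech_eq s hs, sum_congr rfl fun x _ => Ech_above e he x]

end Cfsg.Agent.H636.LIN
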