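import Cfsg.Agent.H636.LIN.DD

/-!
# Type `D`, final forms (helper636, for S4791 / S4927)
-/

set_option autoImplicit false
set_option linter.unusedSectionVars false

namespace Cfsg.Agent.H636.LIN

open Finset

variable {ι : Type*} [Fintype ι] [DecidableEq ι] {m : ℕ}

theorem wt_add (d : ι → ℕ) (σ : Sg ι) : wt d σ + ∑ i, (if σ i = none then d i else 0) = ∑ i, d i := by
  unfold wt
  rw [← sum_add_distrib]
  refine sum_congr rfl fun i _ => ?_
  split_ifs <;> omega

/-- elements of maximal weight -/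
theorem full_of_wt {d : ι → ℕ} (hd : ∀ i, 0 < d i) {σ : Sg ι} (h : wt d σ = ∑ i, d i) (i : ι) : σ i ≠ none := by
  intro h1
  have h2 := wt_add d σ
  have h3 : d i ≤ ∑ i, (if σ i = none then d i else 0) := by
    refine le_trans (le_of_eq ?_) (single_le_sum (f := fun i => if σ i = none then d i else 0) (fun _ _ => Nat.zero_le _) (mem_univ i))
    exact (if_pos h1).symm
  have := hd i
  omega

theorem wt_of_full {d : ι → ℕ} {σ : Sg ι} (h : ∀ i, σ i ≠ none) : wt d σ = ∑ i, d i := by
  unfold wt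
  exact sum_congr rfl fun i _ => if_neg (h i)

/-- add one sign -/
def upd (x : Sg ι) (k : ι) (b : Bool) : Sg ι := fun l => if l = k then some b else x l

theorem upd_same (x : Sg ι) (k : ι) (b : Bool) : upd x k b k = some b := if_pos rfl

theorem upd_ne (x : Sg ι) {k l : ι} (h : l ≠ k) (b : Bool) : upd x k b l = x l := if_neg h

theorem h2_Sg {d : ι → ℕ} (hd : ∀ i, 0 < d i) (hm : ∑ i, d i = m) (i j : Fin m) (hij : (j : ℕ) = i + 1)
    (hj : (j : ℕ) + 1 = m) (x : Sg ι) (hx : wt d x = (i : ℕ) + 1) :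
    (univ.filter fun y : Sg ι => x < y ∧ wt d y = (j : ℕ) + 1).card = 2 := by
  have h1 := wt_add d x
  have h3 : ∑ k, (if x k = none then d k else 0) = 1 := by omega
  obtain ⟨k, hk⟩ : ∃ k, x k = none := by
    by_contra hcon
    push Not at hcon
    rw [sum_congr rfl fun k _ => if_neg (hcon k)] at h3
    simp at h3
  have h4 : ∀ l, l ≠ k → x l ≠ none := by
    intro l hl hl0
    have h5 : ∑ k' ∈ ({k, l} : Finset ι), (if x k' = none then d k' else 0) ≤ 1 := by
      rw [← h3]
      exact sum_le_sum_of_subset (subset_univ _)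
    rw [sum_pair hl.symm, if_pos hk, if_pos hl0] at h5
    have := hd k
    have := hd l
    omega
  have h5 : (univ.filter fun y : Sg ι => x < y ∧ wt d y = (j : ℕ) + 1) =
      (univ : Finset Bool).image (upd x k) := by
    refine Finset.ext fun y => ⟨fun hy => ?_, fun hy => ?_⟩
    · obtain ⟨-, hlt, hw⟩ := mem_filter.1 hy
      have hfull : ∀ l, y l ≠ none := full_of_wt hd (by omega)
      obtain ⟨b, hb⟩ := Option.ne_none_iff_exists'.1 (hfull k)
      refine mem_image.2 ⟨b, mem_univ _, ext_sg fun l => ?_⟩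
      by_cases hl : l = k
      · rw [hl, hb, upd_same]
      · rw [upd_ne x hl]
        rcases hlt.le l with h6 | h6
        · exact absurd h6 (h4 l hl)
        · exact h6
    · obtain ⟨b, -, rfl⟩ := mem_image.1 hy
      have hfull : ∀ l, upd x k b l ≠ none := by
        intro l
        by_cases h6 : l = k
        · rw [h6, upd_same]
          simp
        · rw [upd_ne x h6]
          exact h4 l h6
      refine mem_filter.2 ⟨mem_univ _, lt_of_le_of_ne (fun l => ?_) (fun e => ?_), ?_⟩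
      · by_cases hl : l = k
        · rw [hl]
          exact Or.inl hk
        · exact Or.inr (upd_ne x hl b).symm
      · exact hfull k (by rw [← e]; exact hk)
      · rw [wt_of_full hfull]
        omega
  rw [h5, card_image_of_injective, card_univ, Fintype.card_bool]
  intro b b' e
  have h6 : upd x k b k = upd x k b' k := congrFun e k
  rw [upd_same, upd_same] at h6
  exact Option.some_injective _ h6

theorem h2_QD {v : ℕ} (_hv : 0 < v) {d : ι → ℕ} (hd : ∀ i, 2 ≤ d i) (hm : v + ∑ i, d i = m) (i j : Fin m)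
    (hij : (j : ℕ) = i + 1) (hj : (j : ℕ) + 1 = m) (x : QD v ι) (hx : ddm d x = (i : ℕ) + 1) :
    (univ.filter fun y : QD v ι => x < y ∧ ddm d y = (j : ℕ) + 1).card = 2 := by
  have hd' : ∀ i, 0 < d i := fun i => by have := hd i; omega
  obtain ⟨t, σ⟩ := x
  have h1 := wt_add d σ
  have h2 := tdim_le t
  change tdim t + wt d σ = i + 1 at hx
  have hfull : ∀ k, σ k ≠ none := by
    intro k hk
    have h3 : d k ≤ ∑ i, (if σ i = none then d i else 0) := by
      refine le_trans (le_of_eq ?_) (single_le_sum (f := fun i => if σ i = none then d i else 0) (fun _ _ => Nat.zero_le _) (mem_univ k))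
      exact (if_pos hk).symm
    have := hd k
    omega
  have h3 := wt_of_full (d := d) hfull
  have ht : tdim t = v - 1 := by omega
  have h5 : (univ.filter fun y : QD v ι => (t, σ) < y ∧ ddm d y = (j : ℕ) + 1) =
      (univ : Finset Bool).image fun b => ((top b, σ) : QD v ι) := by
    refine Finset.ext fun y => ⟨fun hy => ?_, fun hy => ?_⟩
    · obtain ⟨-, hlt, hw⟩ := mem_filter.1 hy
      have h4 := tdim_le y.1
      have h6 : wt d y.2 ≤ ∑ i, d i := by have := wt_add d y.2; omega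
      have h7 : tdim y.1 = v := by change tdim y.1 + wt d y.2 = _ at hw; omega
      have h8 : σ = y.2 := by
        refine ext_sg fun k => ?_
        rcases hlt.le.2 k with h9 | h9
        · exact absurd h9 (hfull k)
        · exact h9
      rcases tp_cases y.1 with ⟨a, ha⟩ | ⟨b, hb⟩
      · rw [ha, tdim_low] at h7
        have := a.2
        omega
      · exact mem_image.2 ⟨b, mem_univ _, Prod.ext hb.symm h8⟩
    · obtain ⟨b, -, rfl⟩ := mem_image.1 hy
      refine mem_filter.2 ⟨mem_univ _, lt_of_le_of_ne ⟨Or.inr ?_, le_rfl⟩ (fun e => ?_), ?_⟩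
      · change tdim t < tdim (top b)
        rw [tdim_top]
        omega
      · have h6 := congrArg (fun z : QD v ι => tdim z.1) e
        change tdim t = tdim (top b) at h6
        rw [tdim_top] at h6
        omega
      · change tdim (top b) + wt d σ = _
        rw [tdim_top]
        omega
  rw [h5, card_image_of_injective, card_univ, Fintype.card_bool]
  intro b b' e
  exact top_inj (congrArg Prod.fst e)

/-- **type `D`, `V_0 = 0`** -/
theorem alt_sum_D0 (d : ι → ℕ) (hd : ∀ i, 0 < d i) (hm : ∑ i, d i = m) {a : ℕ} (i j : Fin m)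
    (hij : (j : ℕ) = i + 1) (hj : (j : ℕ) + 1 = m) (ha : a ≤ i)
    (S : Finset (Fin m)) (hS : ∀ k, k ∈ S ↔ a ≤ (k : ℕ)) (N : Finset (Fin m) → ℤ)
    (h0 : ∀ U : Finset (Fin m), (∀ k ∈ U, a ≤ (k : ℕ) ∧ (k : ℕ) < i) → N U = nch (wt (ι := ι) d) U)
    (h1 : ∀ U : Finset (Fin m), (∀ k ∈ U, a ≤ (k : ℕ) ∧ (k : ℕ) < i) →
      N (insert i U) + N (insert j U) = nch (wt (ι := ι) d) (insert j U))
    (h11 : ∀ U : Finset (Fin m), (∀ k ∈ U, a ≤ (k : ℕ) ∧ (k : ℕ) < i) →
      N (insert j (insert i U)) = nch (wt (ι := ι) d) (insert i U)) :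
    ∑ L ∈ S.powerset, (-1) ^ L.card * N (S \ L) = (-1) ^ (m - a) * TT (ι := ι) d 0 (a + 1) := by
  rw [alt_sum_D (fun x y h => wt_strictMono hd h) (fun x => by have := wt_add d x; omega) i j hij hj ha
    (fun x hx => h2_Sg hd hm i j hij hj x hx) S hS N h0 h1 h11, Ech_ge0]

/-- **type `D`, `V_0 ≠ 0` of `+` type** -/
theorem alt_sum_DV {v : ℕ} (hv : 0 < v) (d : ι → ℕ) (hd : ∀ i, 2 ≤ d i) (hm : v + ∑ i, d i = m) {a : ℕ} (i j : Fin m)
    (hij : (j : ℕ) = i + 1) (hj : (j : ℕ) + 1 = m) (ha : a ≤ i)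
    (S : Finset (Fin m)) (hS : ∀ k, k ∈ S ↔ a ≤ (k : ℕ)) (N : Finset (Fin m) → ℤ)
    (h0 : ∀ U : Finset (Fin m), (∀ k ∈ U, a ≤ (k : ℕ) ∧ (k : ℕ) < i) → N U = nch (ddm (ι := ι) (v := v) d) U)
    (h1 : ∀ U : Finset (Fin m), (∀ k ∈ U, a ≤ (k : ℕ) ∧ (k : ℕ) < i) →
      N (insert i U) + N (insert j U) = nch (ddm (ι := ι) (v := v) d) (insert j U))
    (h11 : ∀ U : Finset (Fin m), (∀ k ∈ U, a ≤ (k : ℕ) ∧ (k : ℕ) < i) →
      N (insert j (insert i U)) = nch (ddm (ι := ι) (v := v) d) (insert i U)) :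
    ∑ L ∈ S.powerset, (-1) ^ L.card * N (S \ L) =
      (-1) ^ (m - a) * (2 * TT (ι := ι) d v (a + 1) - TT (ι := ι) d (v - 1) (a + 1)) := by
  rw [alt_sum_D (fun x y h => ddm_strictMono (fun i => by have := hd i; omega) h) (ddm_le d hm) i j hij hj ha
    (fun x hx => h2_QD hv hd hm i j hij hj x hx) S hS N h0 h1 h11, Ech_geD hv]

end Cfsg.Agent.H636.LIN
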