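import Cfsg.Agent.H636.LIN.NorL
import Cfsg.Agent.H965.XZ.IdxB

/-!
# `LinData`, any type, from orders (helper636, for S4791 / S4927, (D3'))
-/

set_option autoImplicit false
set_option linter.unusedSectionVars false

namespace Cfsg.Agent.H636.LIN

open Cfsg CoxeterSystem Cfsg.Agent.ChevalleyStructure.CoxeterGeom Cfsg.Agent.Tits.Roots Cfsg.Agent.Tits.Core
  Cfsg.Agent.Tits.Exchange Cfsg.Agent.Nodes.Reps Cfsg.Agent.Nodes.BNOf Cfsg.Agent.Nodes.StabComb
  Cfsg.Agent.Nodes.Bruhat Cfsg.Agent.Nodes.OppDec Cfsg.Agent.Nodes.LeviDec Cfsg.Agent.H53.HC Cfsg.Agent.H796.XZ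

variable {I W Y : Type*} [Fintype I] [DecidableEq I] [Group W] [Finite W] [Group Y] [Finite Y] {M : CoxeterMatrix I}
  {cs : CoxeterSystem M W} {A : I → I → ℤ} {h : IsCartan M A} {r : ℕ} {T : Subgroup Y} {n : I → Y}
  {X : (I → ℤ) → Subgroup Y} (R : RGD cs h r T n X)

include R

/-- the order of a parabolic subgroup -/
theorem card_PJ_mul (J : Set I) : Nat.card ↥(PJ cs h T X J) = Nat.card ↥(LJ cs h T X J) * Nat.card ↥(VJ cs h X J) := by
  have hle := LJ_le_normalizer_VJ R J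
  let f : ↥(LJ cs h T X J) × ↥(VJ cs h X J) → ↥(PJ cs h T X J) := fun x =>
    ⟨x.1 * x.2, (mem_PJ R).2 ⟨_, x.1.2, _, x.2.2, rfl⟩⟩
  have hf : Function.Bijective f := by
    constructor
    · rintro ⟨l, v⟩ ⟨l', v'⟩ e
      have e1 : (l : Y) * v = l' * v' := congrArg Subtype.val e
      have e2 : (l' : Y)⁻¹ * l = v' * (v : Y)⁻¹ := by
        have : (v' : Y) = (l' : Y)⁻¹ * (l * v) := by rw [e1, inv_mul_cancel_left]
        rw [this]
        group
      have e3 : (l' : Y)⁻¹ * l = 1 := eq_one_of_mem_LJ_of_mem_VJ R (J := J) (mul_mem (inv_mem l'.2) l.2) (by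
        rw [e2]
        exact mul_mem v'.2 (inv_mem v.2))
      have e4 : (l' : Y) = l := inv_mul_eq_one.1 e3
      rw [e4] at e1
      rw [Subtype.ext e4, Subtype.ext (mul_left_cancel e1)]
    · rintro ⟨g, hg⟩
      obtain ⟨l, hl, v, hv, rfl⟩ := (mem_PJ R).1 hg
      exact ⟨(⟨l, hl⟩, ⟨v, hv⟩), rfl⟩
  rw [← Nat.card_congr (Equiv.ofBijective f hf), Nat.card_prod]

variable {p : ℕ} [hp : Fact p.Prime] [hr : Fact r.Prime]

theorem not_dvd_VJ (hpr : p ≠ r) (J : Set I) : ¬ p ∣ Nat.card ↥(VJ cs h X J) := by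
  have h1 : IsPGroup r ↥(VJ cs h X J) := R.isPGroup_of_pos fun x hx => ⟨hx.1, hx.2.1⟩
  obtain ⟨k, hk⟩ := IsPGroup.iff_card.1 h1
  rw [hk]
  intro h2
  exact hpr ((Nat.prime_dvd_prime_iff_eq hp.out hr.out).1 (hp.out.dvd_of_dvd_pow h2))

theorem fac_LJ (hpr : p ≠ r) (J : Set I) :
    (Nat.card ↥(PJ cs h T X J)).factorization p = (Nat.card ↥(LJ cs h T X J)).factorization p := by
  rw [card_PJ_mul R J, Nat.factorization_mul Nat.card_pos.ne' Nat.card_pos.ne', Finsupp.add_apply,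
    Nat.factorization_eq_zero_of_not_dvd (not_dvd_VJ R hpr J), add_zero]

theorem PJ_mono' {K J : Set I} (hK : K ⊆ J) : PJ cs h T X K ≤ PJ cs h T X J := Cfsg.Agent.H554.RG.PJ_mono R hK

/-- **the Sylow subgroup lies in no smaller parabolic subgroup** -/
theorem ell_of (hpr : p ≠ r) {JA : Set I} (hd : ∀ K ⊆ JA, K ≠ JA → p ∣ (PJ cs h T X K).relIndex (PJ cs h T X JA))
    {P₀ : Subgroup Y} (hP₀ : Nat.card ↥P₀ = p ^ (Nat.card ↥(LJ cs h T X JA)).factorization p) :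
    ∀ K ⊆ JA, (∃ a ∈ PJ cs h T X JA, ∀ x ∈ P₀, a⁻¹ * x * a ∈ PJ cs h T X K) → K = JA := by
  rintro K hK ⟨a, ha, h1⟩
  by_contra hne
  have h2 := hd K hK hne
  have h3 := (((PJ cs h T X K).subgroupOf (PJ cs h T X JA)).card_mul_index)
  rw [Nat.card_congr (Subgroup.subgroupOfEquivOfLe (PJ_mono' R hK)).toEquiv] at h3
  change Nat.card ↥(PJ cs h T X K) * (PJ cs h T X K).relIndex (PJ cs h T X JA) = _ at h3
  have h4 : P₀.map (MulAut.conj a⁻¹).toMonoidHom ≤ PJ cs h T X K := by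
    rintro _ ⟨x, hx, rfl⟩
    have h5 := h1 x hx
    have e : (MulAut.conj a⁻¹).toMonoidHom x = a⁻¹ * x * a := by simp
    rw [e]
    exact h5
  have h5 := Subgroup.card_dvd_of_le h4
  rw [Subgroup.card_map_of_injective (MulAut.conj a⁻¹).injective, hP₀, ← fac_LJ R hpr JA] at h5
  have h6 : p ^ ((Nat.card ↥(PJ cs h T X JA)).factorization p + 1) ∣ Nat.card ↥(PJ cs h T X JA) := by
    rw [pow_succ, ← h3]
    refine mul_dvd_mul ?_ h2
    rw [h3]
    exact h5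
  exact Nat.pow_succ_factorization_not_dvd Nat.card_pos.ne' hp.out h6

/-- **`LinData`, any type** -/
theorem exists_linData {Γ : Type*} [Group Γ] [Finite Γ] (φ : Γ →* W) {JA JL JT : Set I} (hJ : JA ⊆ JL)
    (h1 : ∀ π, φ π ∈ WJ cs JL) (h2 : ∀ π, ∀ x ∈ RootsJ cs h JA, rep cs h (φ π) x ∈ RootsJ cs h JA)
    (h3 : ∀ π, φ π ∈ WJ cs JA → π = 1) (hpr : p ≠ r)
    (hY : (Nat.card Y).factorization p = (Nat.card ↥(PJ cs h T X JA) * Nat.card Γ).factorization p)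
    (hd : ∀ K ⊆ JA, K ≠ JA → p ∣ (PJ cs h T X K).relIndex (PJ cs h T X JA))
    (hcop : ¬ p ∣ Nat.card ↥(RGD.Sup X (RootsJ cs h JT)))
    (hcomm : (Orth A JL JT ∧ ¬ p ∣ Nat.card ↥T) ∨ JT = ∅)
    (hcen : ∀ P₀ : Subgroup Y, IsPGroup p ↥P₀ → P₀ ≤ LJ cs h T X JA → ¬ p ∣ P₀.relIndex (LJ cs h T X JA) →
      Subgroup.centralizer (P₀ : Set Y) ≤ LJ cs h T X (JA ∪ JT)) :
    ∃ (P : Sylow p Y) (P₀ : Subgroup Y), LinData cs h T X p JA JT P P₀ := by
  have hY' : (Nat.card Y).factorization p = (Nat.card ↥(LJ cs h T X JA) * Nat.card Γ).factorization p := by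
    rw [hY, Nat.factorization_mul Nat.card_pos.ne' Nat.card_pos.ne', Nat.factorization_mul Nat.card_pos.ne' Nat.card_pos.ne',
      Finsupp.add_apply, Finsupp.add_apply, fac_LJ R hpr]
  obtain ⟨P, hP, hconj, hcard⟩ := exists_sylow R φ h2 h3 hY'
  refine ⟨P, (P : Subgroup Y) ⊓ LJ cs h T X JA, ?_⟩
  refine { le := inf_le_left, conj := hconj, le_LJ := inf_le_right, ell := ell_of R hpr hd hcard, comm := ?_, cop := hcop, cen := ?_ }
  · intro x hx g hg
    rcases hcomm with ⟨ho, hT⟩ | hJT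
    · obtain ⟨k, hk⟩ := P.isPGroup' ⟨x, hx⟩
      exact comm_of_cop R ho hT (k := k) (congrArg Subtype.val hk) (HG_le R φ hJ h1 (hP hx)) hg
    · subst hJT
      have h4 : RGD.Sup X (RootsJ cs h ∅) = ⊥ := by
        refine le_bot_iff.1 (RGD.Sup_le fun z hz => ?_)
        exfalso
        exact hz.1.ne_zero (funext fun k => hz.2 k (Set.notMem_empty k))
      rw [h4, Subgroup.mem_bot] at hg
      rw [hg, mul_one, one_mul]
  · refine hcen _ (P.isPGroup'.to_le inf_le_left) inf_le_right ?_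
    intro h5
    have h6 := (((P : Subgroup Y) ⊓ LJ cs h T X JA).subgroupOf (LJ cs h T X JA)).card_mul_index
    rw [Nat.card_congr (Subgroup.subgroupOfEquivOfLe (inf_le_right : (P : Subgroup Y) ⊓ LJ cs h T X JA ≤ LJ cs h T X JA)).toEquiv,
      hcard] at h6
    change p ^ _ * ((P : Subgroup Y) ⊓ LJ cs h T X JA).relIndex (LJ cs h T X JA) = _ at h6
    have h7 : p ^ ((Nat.card ↥(LJ cs h T X JA)).factorization p + 1) ∣ Nat.card ↥(LJ cs h T X JA) := by
      rw [pow_succ]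
      nth_rw 2 [← h6]
      exact mul_dvd_mul_left _ h5
    exact Nat.pow_succ_factorization_not_dvd Nat.card_pos.ne' hp.out h7

end Cfsg.Agent.H636.LIN
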