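import Cfsg.Agent.H636.LIN.BPerm
import Cfsg.Agent.H636.LIN.LinA

/-!
# `LinData`, type `B_m` (helper636, for S4791 / S4927, (D3'))
-/

set_option autoImplicit false
set_option linter.unusedSectionVars false

namespace Cfsg.Agent.H636.LIN

open Cfsg CoxeterSystem Cfsg.Agent.ChevalleyStructure.CoxeterGeom Cfsg.Agent.Tits.Roots Cfsg.Agent.Tits.Core
  Cfsg.Agent.Tits.Exchange Cfsg.Agent.Nodes.Reps Cfsg.Agent.Nodes.BNOf Cfsg.Agent.Nodes.StabComb
  Cfsg.Agent.Nodes.Bruhat Cfsg.Agent.Nodes.OppDec Cfsg.Agent.Nodes.LeviDec Cfsg.Agent.H53.HC Cfsg.Agent.H796.XZ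
  Cfsg.Agent.H965.XZ

variable {m : ℕ} {W Y : Type*} [Group W] [Finite W] [Group Y] [Finite Y] {cs : CoxeterSystem (CoxeterMatrix.B m) W}
  {A : Fin m → Fin m → ℤ} {h : IsCartan (CoxeterMatrix.B m) A} {r : ℕ} {T : Subgroup Y} {n : Fin m → Y}
  {X : (Fin m → ℤ) → Subgroup Y} (R : RGD cs h r T n X)

include R

omit [Finite W] [Finite Y] R in
theorem RootsJ_empty : RootsJ cs h (∅ : Set (Fin m)) = ∅ := by
  refine Set.eq_empty_of_forall_notMem fun z hz => ?_
  exact hz.1.ne_zero (funext fun k => hz.2 k (Set.notMem_empty k))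

omit [Finite W] [Finite Y] R in
theorem Sup_RootsJ_empty : RGD.Sup X (RootsJ cs h (∅ : Set (Fin m))) = ⊥ := by
  rw [RootsJ_empty]
  exact le_bot_iff.1 (RGD.Sup_le fun z hz => absurd hz (Set.notMem_empty z))

variable {p : ℕ} [hp : Fact p.Prime] [hr : Fact r.Prime]

theorem not_dvd_B (hpr : p ≠ r) (hT : ¬ p ∣ Nat.card ↥T) : ¬ p ∣ Nat.card ↥(RGD.B cs h T X) := by
  intro h1
  have h2 := h1.trans (Subgroup.card_dvd_of_le (B_le_PJ (cs := cs) (h := h) (T := T) (X := X) (J := ∅)))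
  rw [card_PJ_mul R] at h2
  rcases (hp.out.dvd_mul).1 h2 with h3 | h3
  · have h4 : LJ cs h T X (∅ : Set (Fin m)) = T := by
      change T ⊔ RGD.Sup X (RootsJ cs h ∅) = T
      rw [Sup_RootsJ_empty, sup_bot_eq]
    rw [h4] at h3
    exact hT h3
  · exact not_dvd_VJ R hpr _ h3

/-- `p` does not divide the order of the tail -/
theorem cop_tail (hpr : p ≠ r) {y z v e w : ℕ} (hy : ∀ i : Fin m, (i : ℕ) + 1 < m → Nat.card (X (sr i)) = y)
    (hz : ∀ i : Fin m, (i : ℕ) + 1 = m → Nat.card (X (sr i)) = z) (hm0 : 0 < m) (hm : v + e * w = m)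
    (hT : ¬ p ∣ Nat.card ↥T) (h1 : ∀ i < v, ¬ p ∣ gs y (i + 1) * (1 + y ^ i * z)) :
    ¬ p ∣ Nat.card ↥(RGD.Sup X (RootsJ cs h (JT m e w))) := by
  have h2 : Nat.card ↥(PJ cs h T X (JT m e w)) = (∏ i ∈ Finset.range v, gs y (i + 1) * (1 + y ^ i * z)) *
      Nat.card ↥(RGD.B cs h T X) := card_tail R hy hz hm0 (k := v) (by omega) (fun j => by
    change e * w ≤ (j : ℕ) ↔ _
    omega)
  have h3 : ¬ p ∣ Nat.card ↥(RGD.B cs h T X) := not_dvd_B R hpr hT
  intro h5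
  have h6 : RGD.Sup X (RootsJ cs h (JT m e w)) ≤ PJ cs h T X (JT m e w) :=
    le_trans (le_sup_right : _ ≤ LJ cs h T X (JT m e w)) LJ_le_PJ
  have h7 := h5.trans (Subgroup.card_dvd_of_le h6)
  rw [h2] at h7
  rcases (hp.out.dvd_mul).1 h7 with h8 | h8
  · obtain ⟨i, hi, h9⟩ := (hp.out.prime.dvd_finsetProd_iff _).1 h8
    exact h1 i (Finset.mem_range.1 hi) h9
  · exact h3 h8

/-- **`LinData`, type `B_m`, from the orders** -/
theorem exists_linData_B_of (hG : GG cs h T X = ⊤) (hpr : p ≠ r) {y z v e w : ℕ}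
    (hy : ∀ i : Fin m, (i : ℕ) + 1 < m → Nat.card (X (sr i)) = y)
    (hz : ∀ i : Fin m, (i : ℕ) + 1 = m → Nat.card (X (sr i)) = z) (hm0 : 0 < m) (he : 0 < e) (hv : v < e) (hm : v + e * w = m)
    (hT : 1 < e → ¬ p ∣ Nat.card ↥T) (h1 : ∀ i, i + 1 < e → ¬ p ∣ gs y (i + 1)) (hlin : ∀ i, ¬ p ∣ 1 + y ^ i * z)
    (hfac : (∏ i ∈ Finset.range m, gs y (i + 1) * (1 + y ^ i * z)).factorization p =
      ((∏ i ∈ Finset.range e, gs y (i + 1)) ^ w * w.factorial).factorization p)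
    (hcard : Nat.card ↥(PJ cs h T X (JA m e w)) = (∏ i ∈ Finset.range e, gs y (i + 1)) ^ w * Nat.card ↥(RGD.B cs h T X))
    (hd : 1 < e → ∀ K ⊆ JA m e w, K ≠ JA m e w → p ∣ (PJ cs h T X K).relIndex (PJ cs h T X (JA m e w)))
    (hcen : ∀ P₀ : Subgroup Y, IsPGroup p ↥P₀ → P₀ ≤ LJ cs h T X (JA m e w) → ¬ p ∣ P₀.relIndex (LJ cs h T X (JA m e w)) →
      Subgroup.centralizer (P₀ : Set Y) ≤ LJ cs h T X (JA m e w ∪ JT m e w)) :
    ∃ (P : Sylow p Y) (P₀ : Subgroup Y), LinData cs h T X p (JA m e w) (JT m e w) P P₀ := by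
  have hm' : e * w ≤ m := by omega
  have hpos : ∀ k : ℕ, 0 < gs y (k + 1) := gs_pos y
  have hpos1 : (∏ i ∈ Finset.range m, gs y (i + 1) * (1 + y ^ i * z)) ≠ 0 := by
    refine Finset.prod_ne_zero_iff.2 fun i _ => ?_
    have := hpos i
    positivity
  have hpos2 : (∏ i ∈ Finset.range e, gs y (i + 1)) ^ w ≠ 0 := by
    refine pow_ne_zero _ (Finset.prod_ne_zero_iff.2 fun i _ => ?_)
    exact (hpos i).ne'
  refine exists_linData R (phi cs hm') (JL := {k : Fin m | (k : ℕ) + 1 < e * w}) (fun k hk => hk.1) (phi_mem_WJ cs hm')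
    (fun π x hx => phi_act cs h hm' π hx) (fun π hπ => eq_one_of_phi_mem cs hm' he hπ) hpr ?_ ?_ ?_ ?_ hcen
  · rw [card_top_B R hG hy hz hm0, hcard, Nat.card_eq_fintype_card (α := Equiv.Perm (Fin w)), Fintype.card_perm, Fintype.card_fin,
      Nat.factorization_mul hpos1 Nat.card_pos.ne', Finsupp.add_apply, hfac,
      Nat.factorization_mul hpos2 (Nat.factorial_ne_zero w),
      Nat.factorization_mul (mul_ne_zero hpos2 Nat.card_pos.ne') (Nat.factorial_ne_zero w),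
      Nat.factorization_mul hpos2 Nat.card_pos.ne', Finsupp.add_apply, Finsupp.add_apply, Finsupp.add_apply]
    ring
  · intro K hK hne
    rcases Nat.lt_or_ge 1 e with he1 | he1
    · exact hd he1 K hK hne
    · exfalso
      apply hne
      refine Set.Subset.antisymm hK fun k hk => ?_
      have h2 : e = 1 := by omega
      exact absurd (h2.symm ▸ one_dvd _ : e ∣ (k : ℕ) + 1) hk.2
  · rcases Nat.lt_or_ge 1 e with he1 | he1
    · refine cop_tail R hpr hy hz hm0 hm (hT he1) fun i hi h2 => ?_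
      rcases (hp.out.dvd_mul).1 h2 with h3 | h3
      · exact h1 i (by omega) h3
      · exact hlin i h3
    · have h2 : JT m e w = ∅ := by
        refine Set.eq_empty_of_forall_notMem fun k hk => ?_
        have h3 : e * w ≤ (k : ℕ) := hk
        have := k.2
        omega
      rw [h2, Sup_RootsJ_empty, Subgroup.card_bot]
      exact hp.out.one_lt.not_ge ∘ Nat.le_of_dvd one_pos
  · rcases Nat.lt_or_ge 1 e with he1 | he1
    · left
      refine ⟨fun i hi j hj => ?_, hT he1⟩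
      have hi' : (i : ℕ) + 1 < e * w := hi
      have hj' : e * w ≤ (j : ℕ) := hj
      have h2 := cart_far h (i := i) (j := j) (by omega)
      exact ⟨fun e1 => by rw [e1] at hi'; omega, h2.1, h2.2⟩
    · right
      refine Set.eq_empty_of_forall_notMem fun k hk => ?_
      have h3 : e * w ≤ (k : ℕ) := hk
      have := k.2
      omega

end Cfsg.Agent.H636.LIN
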