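import Cfsg.Agent.H636.LIN.LinC
import Cfsg.Agent.H967.XZ.Cen

/-!
# `LinData` for the Witt models (helper636, for S4791 / S4927)
-/

set_option autoImplicit false
set_option linter.unusedSectionVars false

namespace Cfsg.Agent.H636.LIN

open Cfsg.Agent.ChevalleyStructure.CoxeterGeom Cfsg.Agent.Tits.Roots Cfsg.Agent.Nodes.TypeC
open Cfsg.Agent.Nodes Cfsg.Agent.Nodes.Comb Cfsg.Agent.Nodes.Reps Cfsg.Agent.Nodes.WittRoot Cfsg.Agent.Nodes.BNOf
open Cfsg.Agent.Nodes.WittRGD Cfsg.Agent.Nodes.RGDLib Cfsg.Agent.Nodes.WittAll Cfsg.Agent.Nodes.StabComb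
open Cfsg.Agent.Nodes.Bruhat Cfsg.Agent.Nodes.OppDec Cfsg.Agent.Nodes.LeviDec
open Cfsg.Agent.TitsThree Cfsg.Agent.TitsThree.Siegel Cfsg.Agent.TitsThree.WittFrame
  Cfsg.Agent.TitsThree.WittWeyl Cfsg.Agent.TitsThree.FrameCN
open Cfsg.Agent.H769.OZ Cfsg.Agent.H796.XZ Cfsg.Agent.H967.XZ

variable {F : Type*} [Field F] {V : Type*} [AddCommGroup V] [Module F V] {H : HForm F V} {m : ℕ}
  {Fr : Frame H (Fin m)} {Y : Type*} [Group Y] (M : Model Fr Y)
  {W : Type*} [Group W] (cs : CoxeterSystem (CoxeterMatrix.B m) W) {r : ℕ} [Finite V] [Fact r.Prime] [CharP F r]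
  (hA : AmbT Fr r M.I) {p0 : Fr.Adm} (hp0 : p0.c ≠ 0)

include hA hp0 in
/-- **`LinData` for every Witt model**, from the block elements -/
theorem linData_model_of [Finite Y] [Fintype F] (hG : GG cs (isCartan m) (WittModel.T M) (WittModel.X M) = ⊤) {p e v w y z : ℕ}
    [Fact p.Prime] (hp2 : p ≠ 2) (hpr : p ≠ r)
    (he : e = orderOf (Fintype.card F : ZMod p)) (hpF : ¬ p ∣ Fintype.card F) {t : ℕ}
    (hσ : ∀ a, H.σ a = a ^ (r ^ t)) (hlin : ∀ j, ¬ p ∣ Fintype.card F ^ j + r ^ t)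
    (hy : ∀ i : Fin m, (i : ℕ) + 1 < m → Nat.card (WittModel.X M (sr i)) = y)
    (hz : ∀ i : Fin m, (i : ℕ) + 1 = m → Nat.card (WittModel.X M (sr i)) = z) (hyF : y = Fintype.card F)
    (hm : v + e * w = m) (hv : v < e) (hw : 0 < w) (hlin' : ∀ i < m, ¬ p ∣ 1 + y ^ i * z)
    (hT : 1 < e → ¬ p ∣ Nat.card ↥(WittModel.T M))
    (hblk : ∀ i < w, ∃ y : M.I, BlkEl Fr p e i y.1) :
    ∃ (P : Sylow p Y) (P₀ : Subgroup Y),
      LinData cs (isCartan m) (WittModel.T M) (WittModel.X M) p (JA m e w) (JT m e w) P P₀ := by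
  have hfin : Finite W := finite_W cs
  have R := rgdC_model M hA hp0 cs
  have he0 : 0 < e := by
    rw [he, orderOf_pos_iff, isOfFinOrder_iff_pow_eq_one]
    refine ⟨p - 1, ?_, ZMod.pow_card_sub_one_eq_one fun h => hpF ((ZMod.natCast_eq_zero_iff _ _).1 h)⟩
    have := (Fact.out : p.Prime).two_le
    omega
  have hy1 : 1 < y := by
    rw [hyF]
    exact Fintype.one_lt_card
  exact exists_linData_B R hG hp2 hpr hy hz hy1 he0 (by rw [hyF]; exact he.symm) hm hv hw hlin' hT fun P₀ hIs hle hS =>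
    cen_of M cs hA hp0 hG he hpF hσ hlin (by omega) hIs hS hblk

end Cfsg.Agent.H636.LIN
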