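import Cfsg.Agent.H796.XZ.LinDefs
import Cfsg.Agent.H53.HC.Prod

/-!
# Extensions of Levi subgroups by subgroups of the Weyl group and Sylow subgroups (helper636, for S4791 / S4927, (D3'))

Any root group datum, `φ : Γ →* W` with image in `W_{JL}`, preserving the roots of `JA ⊆ JL`, meeting `W_{JA}` trivially.

* `HG R JA φ = L_{JA} N_φ`, a subgroup of `L_{JL}`, `|HG| = |L_{JA}| |Γ|` (`card_HG`), normalising `L_{JA}`;
* `exists_sylow` : `v_p |Y| = v_p |L_{JA}| + v_p |Γ|`: a Sylow subgroup `P ≤ HG` of `Y` and `P₀ = P ⊓ L_{JA}`, a Sylow subgroup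
  of `L_{JA}`;
* `comm_of_cop` : `p ∤ |T|`, `JT` orthogonal to `JL`: `P` centralises the root subgroups of `JT`.
-/

set_option autoImplicit false
set_option linter.unusedSectionVars false

namespace Cfsg.Agent.H636.LIN

open Cfsg CoxeterSystem Cfsg.Agent.ChevalleyStructure.CoxeterGeom Cfsg.Agent.Tits.Roots Cfsg.Agent.Tits.Core
  Cfsg.Agent.Tits.Exchange Cfsg.Agent.Nodes.Reps Cfsg.Agent.Nodes.BNOf Cfsg.Agent.Nodes.StabComb
  Cfsg.Agent.Nodes.Bruhat Cfsg.Agent.Nodes.OppDec Cfsg.Agent.Nodes.LeviDec Cfsg.Agent.H53.HC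

variable {I W Y : Type*} [Fintype I] [DecidableEq I] [Group W] [Finite W] [Group Y] [Finite Y] {M : CoxeterMatrix I}
  {cs : CoxeterSystem M W} {A : I → I → ℤ} {h : IsCartan M A} {r : ℕ} {T : Subgroup Y} {n : I → Y}
  {X : (I → ℤ) → Subgroup Y} (R : RGD cs h r T n X) {Γ : Type*} [Group Γ] (φ : Γ →* W)

/-- the elements of `N` over the image of `φ` -/
def NG : Subgroup Y where
  carrier := {g | ∃ π, Rp cs R.nsys (φ π) g}
  one_mem' := ⟨1, by rw [map_one]; exact rp_one⟩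
  mul_mem' := by
    rintro a b ⟨π, ha⟩ ⟨ρ, hb⟩
    exact ⟨π * ρ, by rw [map_mul]; exact ha.mul hb⟩
  inv_mem' := by
    rintro a ⟨π, ha⟩
    exact ⟨π⁻¹, by rw [map_inv]; exact ha.inv⟩

theorem mem_NG {g : Y} : g ∈ NG R φ ↔ ∃ π, Rp cs R.nsys (φ π) g := Iff.rfl

variable {JA JL JT : Set I}

theorem cj_LJ_le {g : Y} {w : W} (hg : Rp cs R.nsys w g) (hw : ∀ x ∈ RootsJ cs h JA, rep cs h w x ∈ RootsJ cs h JA) :
    cj g (LJ cs h T X JA) ≤ LJ cs h T X JA := by
  change cj g (T ⊔ RGD.Sup X (RootsJ cs h JA)) ≤ _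
  rw [cj_sup, RGD.cj_Sup]
  refine sup_le ?_ (iSup_le ?_)
  · rw [(mem_normalizer_iff_cj).1 hg.mem_normalizer]
    exact T_le_LJ
  · rintro ⟨x, hx⟩
    rw [R.conj_rp hg hx.1]
    exact X_le_LJ (hw x hx)

/-- the subgroup -/
def HG (JA : Set I) : Subgroup Y := LJ cs h T X JA ⊔ NG R φ

variable (h2 : ∀ π, ∀ x ∈ RootsJ cs h JA, rep cs h (φ π) x ∈ RootsJ cs h JA)

include h2 in
theorem NG_le_normalizer : NG R φ ≤ Subgroup.normalizer (LJ cs h T X JA : Set Y) := by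
  rintro g ⟨π, hg⟩
  rw [mem_normalizer_iff_cj]
  refine le_antisymm (cj_LJ_le R hg (h2 π)) ?_
  have h3 := cj_LJ_le R (JA := JA) hg.inv (by rw [← map_inv]; exact h2 π⁻¹)
  have h4 := cj_mono g h3
  rwa [cj_cj_inv] at h4

include h2 in
theorem HG_le_normalizer : HG R φ JA ≤ Subgroup.normalizer (LJ cs h T X JA : Set Y) :=
  sup_le Subgroup.le_normalizer (NG_le_normalizer R φ h2)

theorem HG_le (hJ : JA ⊆ JL) (h1 : ∀ π, φ π ∈ WJ cs JL) : HG R φ JA ≤ LJ cs h T X JL := by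
  refine sup_le (LJ_mono hJ) ?_
  rintro g ⟨π, hg⟩
  exact rp_mem_LJ R (h1 π) hg

include h2 in
theorem card_HG (h3 : ∀ π, φ π ∈ WJ cs JA → π = 1) : Nat.card ↥(HG R φ JA) = Nat.card ↥(LJ cs h T X JA) * Nat.card Γ := by
  choose k hk using fun π : Γ => exists_rp cs R.nsys (φ π)
  have hle : LJ cs h T X JA ≤ HG R φ JA := le_sup_left
  have hle' : NG R φ ≤ HG R φ JA := le_sup_right
  let f : ↥(LJ cs h T X JA) × Γ → ↥(HG R φ JA) := fun x =>
    ⟨x.1 * k x.2, mul_mem (hle x.1.2) (hle' ⟨x.2, hk x.2⟩)⟩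
  have hf : Function.Bijective f := by
    constructor
    · rintro ⟨l, π⟩ ⟨l', ρ⟩ e
      have e1 : (l : Y) * k π = l' * k ρ := congrArg Subtype.val e
      have e2 : k ρ * (k π)⁻¹ = (l' : Y)⁻¹ * l := by
        have : k ρ = (l' : Y)⁻¹ * (l * k π) := by rw [e1, inv_mul_cancel_left]
        rw [this]
        group
      have e3 : Rp cs R.nsys (φ (ρ * π⁻¹)) (k ρ * (k π)⁻¹) := by
        rw [map_mul, map_inv]
        exact (hk ρ).mul (hk π).inv
      have e4 : k ρ * (k π)⁻¹ ∈ LJ cs h T X JA := by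
        rw [e2]
        exact mul_mem (inv_mem l'.2) l.2
      have e5 := h3 _ ((cell_mem_PJ_iff R (cell_of_rp e3)).1 (LJ_le_PJ e4))
      have e6 : ρ = π := mul_inv_eq_one.1 e5
      subst e6
      have e7 : (l : Y) = l' := mul_right_cancel e1
      rw [Subtype.ext e7]
    · rintro ⟨g, hg⟩
      have h5 : g ∈ ((LJ cs h T X JA ⊔ NG R φ : Subgroup Y) : Set Y) := hg
      rw [Subgroup.coe_mul_of_right_le_normalizer_left _ _ (NG_le_normalizer R φ h2)] at h5
      obtain ⟨l, hl, u, ⟨π, hu⟩, rfl⟩ := h5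
      have h6 : u * (k π)⁻¹ ∈ T := by
        have h7 : Rp cs R.nsys 1 (u * (k π)⁻¹) := by
          have h8 := hu.mul (hk π).inv
          rwa [mul_inv_cancel] at h8
        exact h7.mem_of_one
      refine ⟨(⟨l * (u * (k π)⁻¹), mul_mem hl (T_le_LJ h6)⟩, π), Subtype.ext ?_⟩
      change l * (u * (k π)⁻¹) * k π = l * u
      group
  rw [← Nat.card_congr (Equiv.ofBijective f hf), Nat.card_prod]

variable {p : ℕ} [hp : Fact p.Prime]

include h2 in
/-- **The Sylow subgroups.** -/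
theorem exists_sylow [Finite Γ] (h3 : ∀ π, φ π ∈ WJ cs JA → π = 1)
    (hY : (Nat.card Y).factorization p = (Nat.card ↥(LJ cs h T X JA) * Nat.card Γ).factorization p) :
    ∃ P : Sylow p Y, (P : Subgroup Y) ≤ HG R φ JA ∧
      (∀ g ∈ (P : Subgroup Y), ∀ x ∈ (P : Subgroup Y) ⊓ LJ cs h T X JA, g⁻¹ * x * g ∈ (P : Subgroup Y) ⊓ LJ cs h T X JA) ∧
      Nat.card ↥((P : Subgroup Y) ⊓ LJ cs h T X JA) = p ^ (Nat.card ↥(LJ cs h T X JA)).factorization p := by
  obtain ⟨Q⟩ : Nonempty (Sylow p ↥(HG R φ JA)) := inferInstance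
  have hQ : Nat.card ↥((Q : Subgroup ↥(HG R φ JA)).map (HG R φ JA).subtype) = p ^ (Nat.card Y).factorization p := by
    rw [Subgroup.card_map_of_injective (Subgroup.subtype_injective _), Q.card_eq_multiplicity, card_HG R φ h2 h3, hY]
  let P : Sylow p Y := Sylow.ofCard _ hQ
  have hPle : (P : Subgroup Y) ≤ HG R φ JA := by
    rintro g ⟨x, -, rfl⟩
    exact x.2
  have hnorm := HG_le_normalizer R φ h2
  have hconj : ∀ g ∈ (P : Subgroup Y), ∀ x ∈ (P : Subgroup Y) ⊓ LJ cs h T X JA,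
      g⁻¹ * x * g ∈ (P : Subgroup Y) ⊓ LJ cs h T X JA := by
    intro g hg x hx
    refine ⟨(P : Subgroup Y).mul_mem ((P : Subgroup Y).mul_mem ((P : Subgroup Y).inv_mem hg) hx.1) hg, ?_⟩
    have hg' : g⁻¹ ∈ HG R φ JA := (HG R φ JA).inv_mem (hPle hg)
    have h5 := (Subgroup.mem_normalizer_iff.1 (hnorm hg') x).1 hx.2
    rwa [inv_inv] at h5
  refine ⟨P, hPle, hconj, ?_⟩
  -- `|P : P ⊓ L|` divides `|Γ|`
  have hLle : LJ cs h T X JA ≤ HG R φ JA := le_sup_left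
  have hN : ((LJ cs h T X JA).subgroupOf (HG R φ JA)).Normal :=
    (Subgroup.normal_subgroupOf_iff_le_normalizer hLle).2 hnorm
  have h5 : (LJ cs h T X JA).relIndex (P : Subgroup Y) ∣ Nat.card Γ := by
    have h6 : (LJ cs h T X JA).relIndex (P : Subgroup Y) =
        ((LJ cs h T X JA).subgroupOf (HG R φ JA)).relIndex ((P : Subgroup Y).subgroupOf (HG R φ JA)) :=
      (Subgroup.relIndex_subgroupOf hPle).symm
    have h7 := Subgroup.relIndex_dvd_index_of_normal ((LJ cs h T X JA).subgroupOf (HG R φ JA))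
      ((P : Subgroup Y).subgroupOf (HG R φ JA))
    rw [h6]
    refine h7.trans (dvd_of_eq ?_)
    have h8 := ((LJ cs h T X JA).subgroupOf (HG R φ JA)).index_mul_card
    rw [card_HG R φ h2 h3, Nat.card_congr (Subgroup.subgroupOfEquivOfLe hLle).toEquiv, mul_comm] at h8
    exact Nat.eq_of_mul_eq_mul_left Nat.card_pos h8
  have h9 : Nat.card ↥((P : Subgroup Y) ⊓ LJ cs h T X JA) * (LJ cs h T X JA).relIndex (P : Subgroup Y) =
      Nat.card ↥(P : Subgroup Y) := by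
    have h10 := ((LJ cs h T X JA).subgroupOf (P : Subgroup Y)).card_mul_index
    have h11 : Nat.card ↥((LJ cs h T X JA).subgroupOf (P : Subgroup Y)) = Nat.card ↥((P : Subgroup Y) ⊓ LJ cs h T X JA) := by
      rw [← Subgroup.card_map_of_injective (Subgroup.subtype_injective (P : Subgroup Y)), Subgroup.subgroupOf_map_subtype, inf_comm]
    rw [h11] at h10
    exact h10
  -- the `p`-parts
  have hPc : Nat.card ↥(P : Subgroup Y) = p ^ (Nat.card Y).factorization p := hQ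
  obtain ⟨a, ha⟩ := (Nat.dvd_prime_pow hp.out).1 (show Nat.card ↥((P : Subgroup Y) ⊓ LJ cs h T X JA) ∣
    p ^ (Nat.card Y).factorization p by rw [← hPc, ← h9]; exact dvd_mul_right _ _)
  obtain ⟨b, hb⟩ := (Nat.dvd_prime_pow hp.out).1 (show (LJ cs h T X JA).relIndex (P : Subgroup Y) ∣
    p ^ (Nat.card Y).factorization p by rw [← hPc, ← h9]; exact dvd_mul_left _ _)
  have h12 : a ≤ (Nat.card ↥(LJ cs h T X JA)).factorization p := by
    refine (hp.out.pow_dvd_iff_le_factorization Nat.card_pos.ne').1 ?_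
    rw [← ha.2]
    exact Subgroup.card_dvd_of_le inf_le_right
  have h13 : b ≤ (Nat.card Γ).factorization p := by
    refine (hp.out.pow_dvd_iff_le_factorization Nat.card_pos.ne').1 ?_
    rw [← hb.2]
    exact h5
  rw [hPc, ha.2, hb.2, ← pow_add] at h9
  have h14 := Nat.pow_right_injective hp.out.two_le h9
  rw [hY, Nat.factorization_mul Nat.card_pos.ne' Nat.card_pos.ne', Finsupp.add_apply] at h14
  rw [ha.2]
  congr 1
  omega

include R in
/-- **`P` centralises the orthogonal root subgroups.** -/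
theorem comm_of_cop (ho : Orth A JL JT) (hT : ¬ p ∣ Nat.card ↥T) {g : Y} {k : ℕ} (hk : g ^ p ^ k = 1)
    (hg : g ∈ LJ cs h T X JL) {b : Y} (hb : b ∈ RGD.Sup X (RootsJ cs h JT)) : g * b = b * g := by
  refine ho.comm R g ?_ b hb
  -- `L = T M`, `M` normal
  let N : Subgroup Y := RGD.Sup X (RootsJ cs h JL)
  change g ∈ N
  have hTN : T ≤ Subgroup.normalizer (N : Set Y) := R.T_le_normalizer fun x hx => hx.1
  have hLN : LJ cs h T X JL ≤ Subgroup.normalizer (N : Set Y) := sup_le hTN Subgroup.le_normalizer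
  have hNL : N ≤ LJ cs h T X JL := le_sup_right
  have h1 : g ∈ ((T ⊔ N : Subgroup Y) : Set Y) := hg
  rw [Subgroup.coe_mul_of_left_le_normalizer_right _ _ hTN] at h1
  obtain ⟨t, ht, s, hs, e⟩ := h1
  have hNn : (N.subgroupOf (LJ cs h T X JL)).Normal := (Subgroup.normal_subgroupOf_iff_le_normalizer hNL).2 hLN
  let q := QuotientGroup.mk' (N.subgroupOf (LJ cs h T X JL))
  have h2 : q ⟨g, hg⟩ = q ⟨t, T_le_LJ ht⟩ := by
    refine (QuotientGroup.eq.2 ?_).symm
    change t⁻¹ * g ∈ N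
    rw [← e, inv_mul_cancel_left]
    exact hs
  have h3 : q ⟨g, hg⟩ ^ p ^ k = 1 := by
    rw [← map_pow]
    have : (⟨g, hg⟩ : ↥(LJ cs h T X JL)) ^ p ^ k = 1 := Subtype.ext hk
    rw [this, map_one]
  have h4 : q ⟨g, hg⟩ ^ Nat.card ↥T = 1 := by
    rw [h2, ← map_pow]
    have : (⟨t, T_le_LJ ht⟩ : ↥(LJ cs h T X JL)) ^ Nat.card ↥T = 1 := by
      apply Subtype.ext
      have h5 := congrArg Subtype.val (pow_card_eq_one' (x := (⟨t, ht⟩ : ↥T)))
      exact h5
    rw [this, map_one]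
  have h5 : Nat.Coprime (p ^ k) (Nat.card ↥T) := Nat.Coprime.pow_left k ((hp.out.coprime_iff_not_dvd).2 hT)
  have h6 : q ⟨g, hg⟩ = 1 := by
    rw [← orderOf_eq_one_iff]
    exact Nat.eq_one_of_dvd_coprimes h5 (orderOf_dvd_of_pow_eq_one h3) (orderOf_dvd_of_pow_eq_one h4)
  have h7 : (⟨g, hg⟩ : ↥(LJ cs h T X JL)) ∈ N.subgroupOf (LJ cs h T X JL) := (QuotientGroup.eq_one_iff _).1 h6
  exact h7

end Cfsg.Agent.H636.LIN
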