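import Cfsg.Agent.H636.LIN.Chains

/-!
# Signed subsets (helper636, for S4791 / S4927)

* `Sg ι` : signed subsets of `ι`; `Fin (v + 1) × Sg ι` : the orbits of the centraliser of `P` on the `P`-fixed totally isotropic
  subspaces;
* `Ech_ge` : the alternating number of the chains of elements of dimension at least `b > v`;
* `alt_sum` : the alternating sum over the types of flags.
-/

set_option autoImplicit false
set_option linter.unusedSectionVars false

namespace Cfsg.Agent.H636.LIN

open Finset

/-- signed subsets -/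
def Sg (ι : Type*) : Type _ := ι → Option Bool

section

variable {ι : Type*} [Fintype ι] [DecidableEq ι]

instance : Fintype (Sg ι) := inferInstanceAs (Fintype (ι → Option Bool))

instance : DecidableEq (Sg ι) := inferInstanceAs (DecidableEq (ι → Option Bool))

instance : PartialOrder (Sg ι) where
  le σ τ := ∀ i, σ i = none ∨ σ i = τ i
  le_refl σ i := Or.inr rfl
  le_trans σ τ ρ h1 h2 i := by
    rcases h1 i with h | h
    · exact Or.inl h
    · rcases h2 i with h' | h'
      · exact Or.inl (h.trans h')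
      · exact Or.inr (h.trans h')
  le_antisymm σ τ h1 h2 := by
    funext i
    rcases h1 i with h | h
    · rcases h2 i with h' | h'
      · exact h.trans h'.symm
      · exact h'.symm
    · exact h

theorem sg_le {σ τ : Sg ι} : σ ≤ τ ↔ ∀ i, σ i = none ∨ σ i = τ i := Iff.rfl

open scoped Classical in
noncomputable instance : DecidableLE (Sg ι) := fun _ _ => Classical.dec _

open scoped Classical in
noncomputable instance : DecidableLT (Sg ι) := fun _ _ => Classical.dec _

theorem ext_sg {σ τ : Sg ι} (h : ∀ i, σ i = τ i) : σ = τ := funext h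

/-- the sign of a signed subset -/
def sgn (σ : Sg ι) : ℤ := ∏ i, if σ i = none then -1 else 1

/-- the weight of a signed subset -/
def wt (d : ι → ℕ) (σ : Sg ι) : ℕ := ∑ i, if σ i = none then 0 else d i

theorem sum_sgn_ge (σ : Sg ι) : ∑ τ ∈ univ.filter (fun τ : Sg ι => σ ≤ τ), sgn τ = 1 := by
  have h1 : (univ.filter fun τ : Sg ι => σ ≤ τ) =
      (Fintype.piFinset (fun i => univ.filter fun t : Option Bool => σ i = none ∨ σ i = t) : Finset (ι → Option Bool)) := by
    refine Finset.ext fun τ => ?_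
    refine Iff.trans (b := σ ≤ τ) ⟨fun h => (mem_filter.1 h).2, fun h => mem_filter.2 ⟨mem_univ _, h⟩⟩ ?_
    refine Iff.trans ?_ (Fintype.mem_piFinset (δ := fun _ : ι => Option Bool)).symm
    refine Iff.trans sg_le ?_
    simp only [mem_filter, mem_univ, true_and]
  have h2 := Finset.prod_univ_sum (fun i => univ.filter fun t : Option Bool => σ i = none ∨ σ i = t)
    (fun (i : ι) (t : Option Bool) => if t = none then (-1 : ℤ) else 1)
  rw [h1]
  unfold sgn
  refine Eq.trans h2.symm ?_
  refine Finset.prod_eq_one fun i _ => ?_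
  rcases h : σ i with _ | b
  · rw [filter_true_of_mem (fun t _ => Or.inl rfl)]
    decide
  · have h3 : (univ.filter fun t : Option Bool => (some b : Option Bool) = none ∨ some b = t) = {some b} := by
      ext t
      rw [mem_filter, mem_singleton]
      constructor
      · rintro ⟨-, h | h⟩
        · exact absurd h (by simp)
        · exact h.symm
      · rintro rfl
        exact ⟨mem_univ _, Or.inr rfl⟩
    rw [h3, sum_singleton]
    rfl

/-- the empty signed subset -/
def emp (ι : Type*) : Sg ι := fun _ => none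

theorem emp_le (σ : Sg ι) : emp ι ≤ σ := fun _ => Or.inl rfl

theorem sum_sgn : ∑ τ : Sg ι, sgn τ = 1 := by
  have h := sum_sgn_ge (emp ι)
  rwa [filter_true_of_mem (fun τ _ => emp_le τ)] at h

/-- the elements of the poset -/
abbrev Q (v : ℕ) (ι : Type*) := Fin (v + 1) × Sg ι

noncomputable instance {v : ℕ} : DecidableLE (Q v ι) := fun _ _ => Classical.dec _

noncomputable instance {v : ℕ} : DecidableLT (Q v ι) := fun _ _ => Classical.dec _

/-- the dimension -/
def dm {v : ℕ} (d : ι → ℕ) (x : Q v ι) : ℕ := x.1 + wt d x.2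

theorem wt_mono {d : ι → ℕ} {σ τ : Sg ι} (h : σ ≤ τ) : wt d σ ≤ wt d τ := by
  unfold wt
  refine sum_le_sum fun i _ => ?_
  rcases h i with h1 | h1
  · rw [if_pos h1]
    exact Nat.zero_le _
  · rw [h1]

theorem wt_strictMono {d : ι → ℕ} (hd : ∀ i, 0 < d i) {σ τ : Sg ι} (h : σ < τ) : wt d σ < wt d τ := by
  unfold wt
  have hle := h.le
  obtain ⟨i, hi⟩ : ∃ i, σ i ≠ τ i := by
    by_contra hcon
    push Not at hcon
    exact h.ne (funext hcon)
  refine sum_lt_sum (fun i _ => ?_) ⟨i, mem_univ _, ?_⟩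
  · rcases hle i with h1 | h1
    · rw [if_pos h1]
      exact Nat.zero_le _
    · rw [h1]
  · rcases hle i with h1 | h1
    · rw [if_pos h1, if_neg fun h2 => hi (h1.trans h2.symm)]
      exact hd i
    · exact absurd h1 hi

theorem dm_strictMono {v : ℕ} {d : ι → ℕ} (hd : ∀ i, 0 < d i) {x y : Q v ι} (h : x < y) : dm d x < dm d y := by
  unfold dm
  rcases Prod.lt_iff.1 h with h1 | h1
  · have h2 : (x.1 : ℕ) < y.1 := h1.1
    have h3 := wt_mono (d := d) h1.2
    omega
  · have h2 : (x.1 : ℕ) ≤ y.1 := h1.1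
    have h3 := wt_strictMono hd h1.2
    omega

/-- the alternating number of the chains above `(v', σ)` -/
def ee {v : ℕ} (x : Q v ι) : ℤ := if (x.1 : ℕ) = v then sgn x.2 else 0

theorem sum_ee {v : ℕ} (s : Finset (Q v ι)) : ∑ x ∈ s, ee x = ∑ σ ∈ univ.filter (fun σ : Sg ι => (Fin.last v, σ) ∈ s), sgn σ := by
  have h1 : ∀ x ∈ s.filter (fun x => (x.1 : ℕ) = v), ee x = sgn x.2 := by
    intro x hx
    unfold ee
    rw [if_pos (mem_filter.1 hx).2]
  have h2 : ∑ x ∈ s, ee x = ∑ x ∈ s.filter (fun x => (x.1 : ℕ) = v), ee x := by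
    rw [sum_filter]
    refine sum_congr rfl fun x _ => ?_
    unfold ee
    split_ifs <;> rfl
  rw [h2, sum_congr rfl h1]
  refine sum_bij' (fun x _ => x.2) (fun σ _ => (Fin.last v, σ)) ?_ ?_ ?_ ?_ ?_
  · intro x hx
    rw [mem_filter] at hx ⊢
    refine ⟨mem_univ _, ?_⟩
    have h3 : (Fin.last v, x.2) = x := Prod.ext (Fin.ext hx.2.symm) rfl
    rw [h3]
    exact hx.1
  · intro σ hσ
    rw [mem_filter] at hσ ⊢
    exact ⟨hσ.2, rfl⟩
  · intro x hx
    exact Prod.ext (Fin.ext (mem_filter.1 hx).2.symm) rfl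
  · intro σ _
    rfl
  · intro x _
    rfl

theorem ee_rec {v : ℕ} (x : Q v ι) : ∑ y ∈ univ.filter (fun y => x ≤ y), ee y = 1 := by
  rw [sum_ee, ← sum_sgn_ge x.2]
  refine sum_congr ?_ fun _ _ => rfl
  ext σ
  simp only [mem_filter, mem_univ, true_and]
  constructor
  · exact fun h => h.2
  · exact fun h => ⟨Fin.le_last _, h⟩

/-- **the alternating number of the chains of elements of dimension at least `b`** -/
theorem Ech_ge {v : ℕ} (d : ι → ℕ) (b : ℕ) :
    Ech (univ.filter fun x : Q v ι => b ≤ dm d x) = ∑ σ ∈ univ.filter (fun σ : Sg ι => v + wt d σ < b), sgn σ := by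
  rw [Ech_upper ee ee_rec, sum_ee]
  · have h1 := sum_sgn (ι := ι)
    rw [← sum_filter_add_sum_filter_not univ (fun σ : Sg ι => v + wt d σ < b)] at h1
    have h2 : (univ.filter fun σ : Sg ι => (Fin.last v, σ) ∈ univ.filter fun x : Q v ι => b ≤ dm d x) =
        univ.filter fun σ : Sg ι => ¬ v + wt d σ < b := by
      refine Finset.ext fun σ => ⟨fun h => ?_, fun h => ?_⟩
      · have h3 : b ≤ dm d (Fin.last v, σ) := (mem_filter.1 (mem_filter.1 h).2).2
        exact mem_filter.2 ⟨mem_univ _, not_lt.2 h3⟩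
      · have h3 : b ≤ dm d (Fin.last v, σ) := not_lt.1 (mem_filter.1 h).2
        exact mem_filter.2 ⟨mem_univ _, mem_filter.2 ⟨mem_univ _, h3⟩⟩
    rw [h2]
    linarith
  · intro x hx y hxy
    rw [mem_filter] at hx ⊢
    refine ⟨mem_univ _, hx.2.trans ?_⟩
    unfold dm
    have h1 : (x.1 : ℕ) ≤ y.1 := hxy.le.1
    have h2 := wt_mono (d := d) hxy.le.2
    omega

end

end Cfsg.Agent.H636.LIN
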